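import Cfsg.Agent.Known.OrthSim.Common

/-!
The minus type.
-/

set_option autoImplicit false
set_option linter.unusedSectionVars false
set_option linter.style.haveILetI false

namespace Cfsg.Lib.OrthSim

open Matrix Cfsg.Lib.Classical Cfsg.Lib.Classical.Refl

universe u

/-! ### Over an arbitrary field -/

section Generic

variable {R : Type u} [Field R] {m : ℕ}

/-- A similitude of the minus form attached to a norm of the binary part. -/
def minusMat (m : ℕ) (a b u v : R) : Matrix ((Fin m ⊕ Fin m) ⊕ Fin 2) ((Fin m ⊕ Fin m) ⊕ Fin 2) R :=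
  fromBlocks (diagonal (Sum.elim (fun _ => u ^ 2 + a * u * v + b * v ^ 2) 1)) 0 0 !![u, -(b * v); v, u + a * v]

theorem minusMat_spec (a b u v : R) (x : (Fin m ⊕ Fin m) ⊕ Fin 2 → R) :
    minusForm m R a b (minusMat m a b u v *ᵥ x) = (u ^ 2 + a * u * v + b * v ^ 2) * minusForm m R a b x := by
  rw [minusForm_coe]
  simp [Cfsg.quadFormMinus, minusMat, fromBlocks_mulVec, mulVec_diagonal, vecHead, vecTail, Matrix.mulVec,
    dotProduct, Fin.sum_univ_two, mul_add, Finset.mul_sum, diagonal_apply, mul_assoc]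
  ring

theorem det_minusMat (a b u v : R) : (minusMat m a b u v).det = (u ^ 2 + a * u * v + b * v ^ 2) ^ (m + 1) := by
  rw [minusMat, det_fromBlocks_zero₂₁, det_diagonal, det_fin_two, Fintype.prod_sum_type]
  simp
  ring

theorem minusMat_map {S : Type u} [Field S] (f : R →+* S) (a b u v : R) :
    (minusMat m a b u v).map f = minusMat m (f a) (f b) (f u) (f v) := by
  rw [minusMat, minusMat, fromBlocks_map, diagonal_map (map_zero f), Matrix.map_zero _ (map_zero f),
    Matrix.map_zero _ (map_zero f)]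
  congr 1
  · congr 1; funext i; rcases i with i | i <;> simp
  · ext i j; fin_cases i <;> fin_cases j <;> simp

/-- A Lagrangian, given a root of the binary part. -/
def lineSpace (m : ℕ) (ρ : R) : ((Fin m → R) × R) →ₗ[R] ((Fin m ⊕ Fin m) ⊕ Fin 2 → R) where
  toFun p := Sum.elim (Sum.elim p.1 0) ![p.2 * ρ, p.2]
  map_add' p q := by
    funext i
    rcases i with (i | i) | i
    · simp
    · simp
    · fin_cases i <;> simp <;> ring
  map_smul' t p := by
    funext i
    rcases i with (i | i) | i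
    · simp
    · simp
    · fin_cases i <;> simp <;> ring

theorem lineSpace_isMax {a b ρ : R} (hρ : ρ ^ 2 + a * ρ + b = 0) :
    HypQuad.IsMax (minusForm m R a b) (m + 1) (LinearMap.range (lineSpace m ρ)) := by
  refine ⟨?_, ?_⟩
  · have hinj : Function.Injective (lineSpace m ρ) := fun p q h => by
      refine Prod.ext (funext fun i => congrFun h (Sum.inl (Sum.inl i))) ?_
      simpa [lineSpace] using congrFun h (Sum.inr 1)
    rw [LinearMap.finrank_range_of_inj hinj, Module.finrank_prod, Module.finrank_fin_fun, Module.finrank_self]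
  · rintro _ ⟨p, rfl⟩
    rw [minusForm_coe]
    simp [Cfsg.quadFormMinus, lineSpace]
    linear_combination p.2 ^ 2 * hρ

theorem minusMat_line {a b ρ : R} (hρ : ρ ^ 2 + a * ρ + b = 0) (u v : R) :
    ∀ x ∈ LinearMap.range (lineSpace m ρ), minusMat m a b u v *ᵥ x ∈ LinearMap.range (lineSpace m ρ) := by
  rintro _ ⟨p, rfl⟩
  refine ⟨((fun i => (u ^ 2 + a * u * v + b * v ^ 2) * p.1 i), p.2 * (v * ρ + u + a * v)), ?_⟩
  funext i
  rcases i with (i | i) | i
  · simp [lineSpace, minusMat, fromBlocks_mulVec, mulVec_diagonal]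
  · simp [lineSpace, minusMat, fromBlocks_mulVec, mulVec_diagonal]
  · fin_cases i
    · simp [lineSpace, minusMat, fromBlocks_mulVec, Matrix.mulVec, dotProduct, Fin.sum_univ_two]
      linear_combination p.2 * v * hρ
    · simp [lineSpace, minusMat, fromBlocks_mulVec, Matrix.mulVec, dotProduct, Fin.sum_univ_two]
      ring

end Generic

/-- Base change of the multiplier identity. -/
theorem map_similitude {R S : Type u} [Field R] [Field S] {m : ℕ} (f : R →+* S) (h2 : (2 : S) ≠ 0) {a b lam : R}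
    {M : Matrix ((Fin m ⊕ Fin m) ⊕ Fin 2) ((Fin m ⊕ Fin m) ⊕ Fin 2) R}
    (h : ∀ x, minusForm m R a b (M *ᵥ x) = lam * minusForm m R a b x) (x : (Fin m ⊕ Fin m) ⊕ Fin 2 → S) :
    minusForm m S (f a) (f b) (M.map f *ᵥ x) = f lam * minusForm m S (f a) (f b) x := by
  classical
  set Q := minusForm m S (f a) (f b) with hQ
  have hev : ∀ y, Q (f ∘ y) = f (minusForm m R a b y) := fun y => by
    rw [hQ, minusForm_coe, minusForm_coe]
    simp [Cfsg.quadFormMinus]
  have hmv : ∀ y, M.map f *ᵥ (f ∘ y) = f ∘ (M *ᵥ y) := fun y => funext fun i => (RingHom.map_mulVec f M y i).symm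
  have key : Q.comp (Matrix.mulVecLin (M.map f)) = f lam • Q := by
    refine QuadraticMap.polarBilin_injective h2.isUnit
      (LinearMap.BilinForm.ext_basis (Pi.basisFun S ((Fin m ⊕ Fin m) ⊕ Fin 2)) fun i j => ?_)
    simp only [Pi.basisFun_apply, QuadraticMap.polarBilin_apply_apply, QuadraticMap.polar, QuadraticMap.comp_apply,
      Matrix.mulVecLin_apply, _root_.smul_apply, smul_eq_mul]
    have e : ∀ l, (Pi.single l 1 : (Fin m ⊕ Fin m) ⊕ Fin 2 → S) = f ∘ Pi.single l 1 := fun l => by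
      funext t; simp [Pi.single_apply]
    have ea : (Pi.single i 1 : (Fin m ⊕ Fin m) ⊕ Fin 2 → S) + Pi.single j 1 = f ∘ (Pi.single i 1 + Pi.single j 1) := by
      rw [e i, e j]; funext t; simp
    rw [ea, e i, e j, hmv, hmv, hmv, hev, hev, hev, hev, hev, hev, h, h, h, map_mul, map_mul, map_mul]
  exact congrArg (fun P : QuadraticForm S _ => P x) key

/-! ### Over a finite field of odd order -/

variable {F : Type u} [Field F] [Fintype F] [DecidableEq F] {m : ℕ} {a b : F}

local notation "QM" => minusForm m F a b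

/-- The torus on the hyperbolic part. -/
def torusM : (Fin m → Fˣ) →* Cfsg.isometryGroup F (⇑QM) where
  toFun c := ⟨diagGL (Sum.elim (Sum.elim c c⁻¹) 1), (mem_iff QM).2 fun x => by
    simp only [minusForm_coe, Cfsg.quadFormMinus, diagGL_mulVec, Sum.elim_inl, Sum.elim_inr, Pi.inv_apply,
      Pi.one_apply, Units.val_one, one_mul]
    have h : ∀ i (y z : F), ((c i : F) * y) * (((c i)⁻¹ : Fˣ) * z) = y * z := fun i y z => by
      rw [mul_mul_mul_comm, ← Units.val_mul, mul_inv_cancel, Units.val_one, one_mul]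
    simp only [h]⟩
  map_one' := Subtype.ext (by
    show diagGL _ = 1
    rw [show Sum.elim (Sum.elim (1 : Fin m → Fˣ) (1 : Fin m → Fˣ)⁻¹) (1 : Fin 2 → Fˣ) = 1 by
      funext i; rcases i with (i | i) | i <;> simp, map_one])
  map_mul' c d := Subtype.ext (by
    show diagGL _ = diagGL _ * diagGL _
    rw [← map_mul]; congr 1
    funext i; rcases i with (i | i) | i <;> simp [mul_comm])

theorem torusM_mulVec (c : Fin m → Fˣ) (x : (Fin m ⊕ Fin m) ⊕ Fin 2 → F) (j : (Fin m ⊕ Fin m) ⊕ Fin 2) :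
    (mat QM (torusM c) *ᵥ x) j = (Sum.elim (Sum.elim c c⁻¹) 1 j : Fˣ) * x j := diagGL_mulVec _ _ _

theorem detHom_torusM (c : Fin m → Fˣ) : detHom QM (torusM c) = 1 := Units.ext (by
  rw [detHom_diag (d := Sum.elim (Sum.elim c c⁻¹) 1) rfl, Fintype.prod_sum_type, Fintype.prod_sum_type]
  simp only [Sum.elim_inl, Sum.elim_inr, Pi.inv_apply, Pi.one_apply, ← Finset.prod_mul_distrib, ← Units.val_mul,
    mul_inv_cancel, Units.val_one, Finset.prod_const_one, one_mul])

/-- The anisotropy of the binary part. -/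
def Aniso (a b : F) : Prop := ∀ z₁ z₂ : F, z₁ ^ 2 + a * z₁ * z₂ + b * z₂ ^ 2 = 0 → z₁ = 0 ∧ z₂ = 0

theorem aniso_disc (h2 : (2 : F) ≠ 0) (hab : Aniso a b) : ¬ IsSquare (a ^ 2 - 4 * b) := by
  rintro ⟨r, hr⟩
  refine one_ne_zero (hab ((r - a) / 2) 1 ?_).2
  field_simp
  linear_combination -hr

theorem aniso_ne (h2 : (2 : F) ≠ 0) (hab : Aniso a b) : 4 * b - a ^ 2 ≠ 0 := fun h =>
  aniso_disc h2 hab (by rw [show a ^ 2 - 4 * b = 0 by linear_combination -h]; exact IsSquare.zero)

theorem exists_norm (h2 : (2 : F) ≠ 0) (hab : Aniso a b) :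
    ∃ u v : F, ¬ IsSquare (u ^ 2 + a * u * v + b * v ^ 2) := by
  obtain ⟨c, hc⟩ := exists_nonsq (F := F) h2
  have h4 : (4 : F) ≠ 0 := by rw [show (4 : F) = 2 * 2 by norm_num]; exact mul_ne_zero h2 h2
  obtain ⟨x, y, hxy⟩ := binary_universal h2 (a := (1 : F)) (b := (4 * b - a ^ 2) / 4) one_ne_zero
    (div_ne_zero (aniso_ne h2 hab) h4) (c : F)
  refine ⟨x - a * y / 2, y, ?_⟩
  rw [show (x - a * y / 2) ^ 2 + a * (x - a * y / 2) * y + b * y ^ 2 = (c : F) by
    rw [← hxy]; field_simp; ring]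
  exact hc

theorem spin_torusM (h2 : (2 : F) ≠ 0) (hab : Aniso a b) {c : Fˣ} (hc : ¬ IsSquare (c : F)) :
    spin QM (torusM fun _ => c) = (-1) ^ m := by
  classical
  have h := map_prod ((spin QM).comp torusM) (fun i : Fin m => Pi.mulSingle i c) Finset.univ
  rw [Finset.univ_prod_mulSingle (fun _ : Fin m => c)] at h
  refine h.trans ?_
  rw [Finset.prod_eq_pow_card (b := (-1 : ℤˣ)), Finset.card_univ, Fintype.card_fin]
  intro i _
  refine spin_pair_torus h2 (minusForm_nondegenerate h2 m (aniso_ne h2 hab)) (by simp)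
    (e := Pi.single (Sum.inl (Sum.inl i)) 1) (f := Pi.single (Sum.inl (Sum.inr i)) 1) (c := (c : F)) ?_ ?_ ?_ hc _
    fun x => ?_
  · simp [minusForm_coe, Cfsg.quadFormMinus]
  · simp [minusForm_coe, Cfsg.quadFormMinus]
  · simp [QuadraticMap.polar, minusForm_coe, Cfsg.quadFormMinus, Pi.single_apply]
  · have pe : QuadraticMap.polar (⇑QM) (Pi.single (Sum.inl (Sum.inl i)) 1) x = x (Sum.inl (Sum.inr i)) := by
      simp [QuadraticMap.polar, minusForm_coe, Cfsg.quadFormMinus, Pi.single_apply, add_mul, Finset.sum_add_distrib]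
    have pf : QuadraticMap.polar (⇑QM) (Pi.single (Sum.inl (Sum.inr i)) 1) x = x (Sum.inl (Sum.inl i)) := by
      simp [QuadraticMap.polar, minusForm_coe, Cfsg.quadFormMinus, Pi.single_apply, mul_add, Finset.sum_add_distrib]
    rw [pe, pf]
    funext j
    rw [torusM_mulVec]
    rcases j with (j | j) | j
    · rcases eq_or_ne j i with rfl | hj <;> simp [*] <;> ring
    · rcases eq_or_ne j i with rfl | hj <;> simp [*] <;> ring
    · simp

/-- The similitude as a group element. -/
noncomputable def minusD (u v : F) (h : u ^ 2 + a * u * v + b * v ^ 2 ≠ 0) : GO QM :=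
  ⟨Matrix.GeneralLinearGroup.mkOfDetNeZero (minusMat m a b u v) (by rw [det_minusMat]; exact pow_ne_zero _ h),
    Units.mk0 _ h, fun x => minusMat_spec a b u v x⟩

theorem gm_minusD (u v : F) (h : u ^ 2 + a * u * v + b * v ^ 2 ≠ 0) :
    gm QM (minusD u v h) = minusMat m a b u v := rfl

/-- The inner-diagonal subgroup, for any way of writing the form. -/
def inndiagM (a b : F) (f : ((Fin m ⊕ Fin m) ⊕ Fin 2 → F) → F) : Subgroup (MulAut (Cfsg.POmega F f)) :=
  Cfsg.autSubgroupOf fun β => ∃ g : GL ((Fin m ⊕ Fin m) ⊕ Fin 2) F, g ∈ Cfsg.Geo.quadSimilarityGroup (F := F) f ∧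
    Cfsg.PreservesSingularClassesMinus m a b (g : Matrix ((Fin m ⊕ Fin m) ⊕ Fin 2) ((Fin m ⊕ Fin m) ⊕ Fin 2) F) ∧
    Cfsg.IsInducedBySemilinearPOmega f g (RingEquiv.refl F) β

section

variable (h2 : (2 : F) ≠ 0) (hm : 3 ≤ m) (hab : Aniso a b)
include h2 hm hab

theorem norm_ne : (exists_norm h2 hab).choose ^ 2 + a * (exists_norm h2 hab).choose * (exists_norm h2 hab).choose_spec.choose +
    b * (exists_norm h2 hab).choose_spec.choose ^ 2 ≠ 0 := fun h =>
  (exists_norm h2 hab).choose_spec.choose_spec (by rw [h]; exact IsSquare.zero)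

/-- The setup of the minus type. -/
noncomputable def setupM : Setup QM (m + 1) where
  hQ := minusForm_nondegenerate h2 m (aniso_ne h2 hab)
  hn := by simp; omega
  hk := by simp; omega
  h2 := h2
  D := minusD _ _ (norm_ne h2 hm hab)
  hD1 := Units.ext (by
    rw [coe_eps, gm_minusD, det_minusMat,
      mu_eq QM (minusForm_nondegenerate h2 m (aniso_ne h2 hab)) (by simp; omega)
        (c := Units.mk0 _ (norm_ne h2 hm hab)) (fun x => minusMat_spec _ _ _ _ x),
      Units.val_mk0, div_self (pow_ne_zero _ (norm_ne h2 hm hab))]; rfl)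
  hDns := by
    rw [mu_eq QM (minusForm_nondegenerate h2 m (aniso_ne h2 hab)) (by simp; omega)
      (c := Units.mk0 _ (norm_ne h2 hm hab)) (fun x => minusMat_spec _ _ _ _ x)]
    exact fun h => (exists_norm h2 hab).choose_spec.choose_spec (h.map (Units.coeHom F))

theorem exists_root {K : Type u} [Field K] [Algebra F K] (hK : Module.finrank F K = 2) :
    ∃ ρ : K, ρ ^ 2 + algebraMap F K a * ρ + algebraMap F K b = 0 := by
  haveI : FiniteDimensional F K := Module.finite_of_finrank_eq_succ hK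
  haveI : Finite K := Module.finite_of_finite F
  letI : Fintype K := Fintype.ofFinite K
  have hodd : Fintype.card F % 2 = 1 := FiniteField.odd_card_of_char_ne_two
    (fun h => h2 (by haveI := ringChar.of_eq h; exact CharTwo.two_eq_zero))
  have hK2 : (2 : K) ≠ 0 := by rw [← map_ofNat (algebraMap F K)]; exact (map_ne_zero _).2 h2
  have hdF : a ^ 2 - 4 * b ≠ 0 := fun h => aniso_ne h2 hab (by linear_combination -h)
  set d := algebraMap F K (a ^ 2 - 4 * b) with hd
  obtain ⟨s, hs⟩ : IsSquare d := by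
    rw [FiniteField.isSquare_iff (fun h => hK2 (by haveI := ringChar.of_eq h; exact CharTwo.two_eq_zero))
      ((map_ne_zero _).2 hdF), hd, ← map_pow, Module.card_eq_pow_finrank (K := F) (V := K), hK]
    have e : Fintype.card F ^ 2 / 2 = (Fintype.card F - 1) * ((Fintype.card F + 1) / 2) := by
      obtain ⟨j, hj⟩ : ∃ j, Fintype.card F = 2 * j + 1 := ⟨Fintype.card F / 2, by omega⟩
      rw [hj, show (2 * j + 1 + 1) / 2 = j + 1 by omega, show 2 * j + 1 - 1 = 2 * j by omega,
        show (2 * j + 1) ^ 2 = 2 * (2 * j * (j + 1)) + 1 by ring]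
      omega
    rw [e, pow_mul, FiniteField.pow_card_sub_one_eq_one _ hdF, one_pow, map_one]
  refine ⟨(-algebraMap F K a + s) / 2, ?_⟩
  rw [hd, map_sub, map_pow, map_mul, map_ofNat] at hs
  field_simp
  linear_combination -hs

theorem preservesMinus_iff (g : GO QM) :
    Cfsg.PreservesSingularClassesMinus m a b (gm QM g) ↔ g ∈ (setupM h2 hm hab).M := by
  have hQ := minusForm_nondegenerate h2 m (aniso_ne h2 hab)
  have hn : 7 ≤ Fintype.card ((Fin m ⊕ Fin m) ⊕ Fin 2) := by simp; omega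
  have hk : Fintype.card ((Fin m ⊕ Fin m) ⊕ Fin 2) = 2 * (m + 1) := by simp; omega
  obtain ⟨u, v, huv⟩ : ∃ u v : F, u ^ 2 + a * u * v + b * v ^ 2 = (mu QM g : F) := by
    have h4 : (4 : F) ≠ 0 := by rw [show (4 : F) = 2 * 2 by norm_num]; exact mul_ne_zero h2 h2
    obtain ⟨x, y, hxy⟩ := binary_universal h2 (a := (1 : F)) (b := (4 * b - a ^ 2) / 4) one_ne_zero
      (div_ne_zero (aniso_ne h2 hab) h4) (mu QM g : F)
    refine ⟨x - a * y / 2, y, ?_⟩
    rw [← hxy]; field_simp; ring
  have key : ∀ (K : Type u) [Field K] [Algebra F K], Module.finrank F K = 2 →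
      (Cfsg.PreservesSingularClasses (Cfsg.quadFormMinus m K (algebraMap F K a) (algebraMap F K b))
        ((gm QM g).map (algebraMap F K)) ↔ g ∈ (setupM h2 hm hab).M) := by
    intro K _ _ hK
    haveI : FiniteDimensional F K := Module.finite_of_finrank_eq_succ hK
    haveI : Finite K := Module.finite_of_finite F
    letI : Fintype K := Fintype.ofFinite K
    set f := algebraMap F K
    obtain ⟨ρ, hρ⟩ := exists_root h2 hm hab hK
    have hK2 : (2 : K) ≠ 0 := by rw [← map_ofNat f]; exact (map_ne_zero _).2 h2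
    have hKab : 4 * f b - f a ^ 2 ≠ 0 := by
      rw [← map_ofNat f, ← map_mul, ← map_pow, ← map_sub]; exact (map_ne_zero _).2 (aniso_ne h2 hab)
    rw [← minusForm_coe]
    have hμ : f (mu QM g : F) ≠ 0 := (map_ne_zero _).2 (Units.ne_zero _)
    have huvK : f u ^ 2 + f a * f u * f v + f b * f v ^ 2 = f (mu QM g : F) := by
      rw [← huv]; simp only [map_add, map_mul, map_pow]
    have hspec := map_similitude f hK2 (mu_spec QM g)
    have hd := det_minusMat (m := m) (f a) (f b) (f u) (f v)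
    rw [huvK] at hd
    refine (preserves_iff (minusForm_nondegenerate hK2 m hKab) hk (lineSpace_isMax hρ) hK2 hμ
      (Matrix.GeneralLinearGroup.map f g.1)
      (Matrix.GeneralLinearGroup.mkOfDetNeZero (minusMat m (f a) (f b) (f u) (f v))
        (by rw [hd]; exact pow_ne_zero _ hμ))
      hspec (fun x => ?_) hd (minusMat_line hρ _ _)).trans ?_
    · show minusForm m K (f a) (f b) (minusMat m (f a) (f b) (f u) (f v) *ᵥ x) = _
      rw [minusMat_spec, huvK]
    · show ((gm QM g).map f).det = _ ↔ eps QM hQ hn hk g = 1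
      rw [← RingHom.mapMatrix_apply, ← RingHom.map_det, ← map_pow, f.injective.eq_iff, Units.ext_iff, coe_eps,
        Units.val_one, div_eq_one_iff_eq (pow_ne_zero _ (Units.ne_zero _))]
  constructor
  · rintro ⟨K, iK, iA, hK, hp⟩
    exact (key K hK).1 hp
  · intro hg
    haveI : Fact (∀ r : F, r ^ 2 ≠ -b + -a * r) := ⟨fun r hr => one_ne_zero (hab r 1 (by linear_combination hr)).2⟩
    exact ⟨QuadraticAlgebra F (-b) (-a), inferInstance, inferInstance, QuadraticAlgebra.finrank_eq_two _ _,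
      (key (QuadraticAlgebra F (-b) (-a)) (QuadraticAlgebra.finrank_eq_two _ _)).2 hg⟩

theorem inndiagMinus_eq : inndiagM a b (⇑QM) =
      (setupM h2 hm hab).M.map (conjPO QM) :=
  closure_eq_map QM _ _ fun β =>
    ⟨fun ⟨g, hg, hp, h⟩ => ⟨⟨g, hg⟩, (preservesMinus_iff h2 hm hab ⟨g, hg⟩).1 hp, (induced_iff QM ⟨g, hg⟩ β).1 h⟩,
    fun ⟨g, hg, h⟩ => ⟨g.1, g.2, (preservesMinus_iff h2 hm hab g).2 hg, (induced_iff QM g β).2 h⟩⟩

theorem sqD_mem_minus (hneg : Setup.NegMem QM) :
    (setupM h2 hm hab).D * (setupM h2 hm hab).D ∈ NN QM ↔ Odd m := by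
  set u := (exists_norm h2 hab).choose with hu
  set v := (exists_norm h2 hab).choose_spec.choose with hv
  have hl : u ^ 2 + a * u * v + b * v ^ 2 ≠ 0 := norm_ne h2 hm hab
  have hns : ¬ IsSquare (u ^ 2 + a * u * v + b * v ^ 2) := (exists_norm h2 hab).choose_spec.choose_spec
  have hQ := minusForm_nondegenerate h2 m (aniso_ne h2 hab)
  let w : (Fin m ⊕ Fin m) ⊕ Fin 2 → F := Sum.elim 0 ![u, v]
  let o : (Fin m ⊕ Fin m) ⊕ Fin 2 → F := Sum.elim 0 ![1, 0]
  have qw : QM w = u ^ 2 + a * u * v + b * v ^ 2 := by simp [w, minusForm_coe, Cfsg.quadFormMinus]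
  have qo : QM o = 1 := by simp [o, minusForm_coe, Cfsg.quadFormMinus]
  have hw0 : QM w ≠ 0 := by rw [qw]; exact hl
  have ho0 : QM o ≠ 0 := by rw [qo]; exact one_ne_zero
  have pw : ∀ x, QuadraticMap.polar (⇑QM) w x =
      2 * u * x (Sum.inr 0) + a * (u * x (Sum.inr 1) + v * x (Sum.inr 0)) + 2 * b * v * x (Sum.inr 1) := fun x => by
    simp [w, QuadraticMap.polar, minusForm_coe, Cfsg.quadFormMinus]; ring
  have po : ∀ x, QuadraticMap.polar (⇑QM) o x = 2 * x (Sum.inr 0) + a * x (Sum.inr 1) := fun x => by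
    simp [o, QuadraticMap.polar, minusForm_coe, Cfsg.quadFormMinus]; ring
  set c : Fˣ := Units.mk0 _ hl with hc
  have hcv : (c : F) = u ^ 2 + a * u * v + b * v ^ 2 := rfl
  have e : (setupM h2 hm hab).D * (setupM h2 hm hab).D =
      scal QM c * toGO QM (torusM (fun _ => c) * (refl QM w hw0 * refl QM o ho0)) := by
    refine go_ext QM (Matrix.toLin'.injective (LinearMap.ext fun x => ?_))
    rw [Matrix.toLin'_apply, Matrix.toLin'_apply, gm_mul, gm_mul, gm_scal, gm_toGO]
    show (minusMat m a b u v * minusMat m a b u v) *ᵥ x =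
      ((c : F) • (1 : Matrix _ _ F) * (mat QM (torusM fun _ => c) * (Cfsg.reflectionMatrix (⇑QM) w *
        Cfsg.reflectionMatrix (⇑QM) o))) *ᵥ x
    rw [Matrix.smul_mul, Matrix.one_mul, smul_mulVec, ← mulVec_mulVec, ← mulVec_mulVec, ← mulVec_mulVec, mulVec_eq,
      mulVec_eq, qw, qo, pw, po]
    funext j
    rw [Pi.smul_apply, torusM_mulVec]
    rcases j with (j | j) | j
    · simp [w, o, minusMat, fromBlocks_mulVec, mulVec_diagonal]
      rw [← hcv]
      ring
    · simp [w, o, minusMat, fromBlocks_mulVec, mulVec_diagonal]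
    · fin_cases j <;>
        simp [w, o, minusMat, fromBlocks_mulVec, Matrix.mulVec, dotProduct, Fin.sum_univ_two] <;>
        simp only [← hcv] <;> field_simp <;> rw [hcv] <;> ring
  have hspin : spin QM (torusM (fun _ => c) * (refl QM w hw0 * refl QM o ho0)) = (-1) ^ (m + 1) := by
    rw [map_mul, spin_refl_mul h2 hQ (by simp) hw0 ho0 (by rwa [qw, qo, mul_one]),
      spin_torusM h2 hab (c := c) hns, pow_succ]
  rw [e, scal_mul_mem_NN (setupM h2 hm hab) hneg c _ (by
    rw [map_mul, map_mul, detHom_torusM, detHom_refl, detHom_refl, neg_mul_neg, one_mul, one_mul]), hspin,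
    neg_one_pow_eq_one_iff_even (by decide : (-1 : ℤˣ) ≠ 1), Nat.even_add_one, Nat.not_even_iff_odd]

theorem negMem_minus (hodd : Odd (Fintype.card F)) :
    Setup.NegMem QM ↔ (Even m ∧ Fintype.card F % 4 = 3) := by
  have h := neg_one_omega_minus (q := Fintype.card F) rfl hodd m a b hab
  rw [← minusForm_coe] at h
  refine h.trans ?_
  have hq : Fintype.card F % 4 = 1 ∨ Fintype.card F % 4 = 3 := by have := Nat.odd_iff.1 hodd; omega
  rcases Nat.even_or_odd' m with ⟨j, rfl | rfl⟩
  · have : Even (2 * j) := ⟨j, two_mul j⟩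
    rw [pow_succ, pow_mul, Nat.mul_mod, Nat.pow_mod, Nat.pow_mod _ 2]
    rcases hq with h' | h' <;> simp [this, h']
  · have : ¬ Even (2 * j + 1) := by simp [Nat.even_add_one]
    rw [show 2 * j + 1 + 1 = 2 * (j + 1) by ring, pow_mul, Nat.pow_mod, Nat.pow_mod _ 2]
    rcases hq with h' | h' <;> simp [this, h']

end

end Cfsg.Lib.OrthSim
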