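import Cfsg.Agent.Known.OrthSim.Common

/-!
The plus type.
-/

set_option autoImplicit false
set_option linter.unusedSectionVars false
set_option linter.style.haveILetI false

namespace Cfsg.Lib.OrthSim

open Matrix Cfsg.Lib.Classical Cfsg.Lib.Classical.Refl

universe u

variable {F : Type u} [Field F] [Fintype F] [DecidableEq F] {m : ℕ}

local notation "QP" => HypQuad.plusForm m F

theorem plus_coe : Cfsg.quadFormPlus m F = ⇑(HypQuad.plusForm m F) :=
  funext fun v => (HypQuad.plusForm_apply _ v).symm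

/-- The torus of isometries. -/
def torusP : (Fin m → Fˣ) →* Cfsg.isometryGroup F (⇑QP) where
  toFun c := ⟨diagGL (Sum.elim c c⁻¹), (mem_iff QP).2 fun x => by
    simp only [HypQuad.plusForm_apply, Cfsg.quadFormPlus, diagGL_mulVec, Sum.elim_inl, Sum.elim_inr, Pi.inv_apply]
    refine Finset.sum_congr rfl fun i _ => ?_
    rw [mul_mul_mul_comm, ← Units.val_mul, mul_inv_cancel, Units.val_one, one_mul]⟩
  map_one' := Subtype.ext (by
    show diagGL _ = 1
    rw [show Sum.elim (1 : Fin m → Fˣ) (1 : Fin m → Fˣ)⁻¹ = 1 by funext i; rcases i with i | i <;> simp, map_one])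
  map_mul' c d := Subtype.ext (by
    show diagGL _ = diagGL _ * diagGL _
    rw [← map_mul]; congr 1
    funext i; rcases i with i | i <;> simp [mul_comm])

theorem torusP_mulVec (c : Fin m → Fˣ) (x : Fin m ⊕ Fin m → F) (j : Fin m ⊕ Fin m) :
    (mat QP (torusP c) *ᵥ x) j = Sum.elim c c⁻¹ j * x j := diagGL_mulVec _ _ _

theorem detHom_torusP (c : Fin m → Fˣ) : detHom QP (torusP c) = 1 := Units.ext (by
  rw [detHom_diag (d := Sum.elim c c⁻¹) rfl, Fintype.prod_sum_type]
  simp only [Sum.elim_inl, Sum.elim_inr, Pi.inv_apply, ← Finset.prod_mul_distrib, ← Units.val_mul,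
    mul_inv_cancel, Units.val_one, Finset.prod_const_one])

theorem spin_torusP (h2 : (2 : F) ≠ 0) (hm : 1 ≤ m) {c : Fˣ} (hc : ¬ IsSquare (c : F)) :
    spin QP (torusP fun _ => c) = (-1) ^ m := by
  classical
  have h := map_prod ((spin QP).comp torusP) (fun i : Fin m => Pi.mulSingle i c) Finset.univ
  rw [Finset.univ_prod_mulSingle (fun _ : Fin m => c)] at h
  refine h.trans ?_
  rw [Finset.prod_eq_pow_card (b := (-1 : ℤˣ)), Finset.card_univ, Fintype.card_fin]
  intro i _
  refine spin_pair_torus h2 (HypQuad.plusForm_nondegenerate m) (by simp; omega)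
    (e := Pi.single (Sum.inl i) 1) (f := Pi.single (Sum.inr i) 1) (c := (c : F)) ?_ ?_ ?_ hc _ fun x => ?_
  · simp [HypQuad.plusForm_apply, Cfsg.quadFormPlus]
  · simp [HypQuad.plusForm_apply, Cfsg.quadFormPlus]
  · simp [QuadraticMap.polar, HypQuad.plusForm_apply, Cfsg.quadFormPlus, Pi.single_apply]
  · have pe : QuadraticMap.polar (⇑QP) (Pi.single (Sum.inl i) 1) x = x (Sum.inr i) := by
      simp [QuadraticMap.polar, HypQuad.plusForm_apply, Cfsg.quadFormPlus, Pi.single_apply, add_mul,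
        Finset.sum_add_distrib]
    have pf : QuadraticMap.polar (⇑QP) (Pi.single (Sum.inr i) 1) x = x (Sum.inl i) := by
      simp [QuadraticMap.polar, HypQuad.plusForm_apply, Cfsg.quadFormPlus, Pi.single_apply, mul_add,
        Finset.sum_add_distrib]
    rw [pe, pf]
    funext j
    rw [torusP_mulVec]
    rcases j with j | j <;> rcases eq_or_ne j i with rfl | hj <;> simp [*] <;> ring

/-- The outer diagonal similitude. -/
def plusD (c : Fˣ) : GO QP := ⟨diagGL (Sum.elim (fun _ => c) 1), c, fun x => by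
  simp only [HypQuad.plusForm_apply, Cfsg.quadFormPlus, diagGL_mulVec, Sum.elim_inl, Sum.elim_inr, Pi.one_apply,
    Units.val_one, one_mul, Finset.mul_sum, mul_assoc]⟩

theorem plusD_mulVec (c : Fˣ) (x : Fin m ⊕ Fin m → F) (j : Fin m ⊕ Fin m) :
    (gm QP (plusD c) *ᵥ x) j = Sum.elim (fun _ => c) 1 j * x j := diagGL_mulVec _ _ _

theorem plusD_spec (c : Fˣ) (x : Fin m ⊕ Fin m → F) : QP (gm QP (plusD c) *ᵥ x) = c * QP x := by
  simp only [HypQuad.plusForm_apply, Cfsg.quadFormPlus, plusD_mulVec, Sum.elim_inl, Sum.elim_inr, Pi.one_apply,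
    Units.val_one, one_mul, Finset.mul_sum, mul_assoc]

theorem det_plusD (c : Fˣ) : (gm QP (plusD c)).det = (c : F) ^ m := by
  show (diagonal _).det = _
  simp [det_diagonal, Fintype.prod_sum_type]

/-- The inner-diagonal subgroup, for any way of writing the form. -/
def inndiagP (f : (Fin m ⊕ Fin m → F) → F) : Subgroup (MulAut (Cfsg.POmega F f)) :=
  Cfsg.autSubgroupOf fun β => ∃ g : GL (Fin m ⊕ Fin m) F, g ∈ Cfsg.Geo.quadSimilarityGroup (F := F) f ∧
    Cfsg.PreservesSingularClasses f (g : Matrix (Fin m ⊕ Fin m) (Fin m ⊕ Fin m) F) ∧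
    Cfsg.IsInducedBySemilinearPOmega f g (RingEquiv.refl F) β

section

variable (h2 : (2 : F) ≠ 0) (hm : 4 ≤ m)
include h2 hm

/-- The setup of the plus type. -/
noncomputable def setupP : Setup QP m where
  hQ := HypQuad.plusForm_nondegenerate m
  hn := by simp; omega
  hk := by simp; omega
  h2 := h2
  D := plusD (exists_nonsq h2).choose
  hD1 := Units.ext (by
    rw [coe_eps, det_plusD, mu_eq QP (HypQuad.plusForm_nondegenerate m) (by simp; omega) (plusD_spec _),
      div_self (pow_ne_zero _ (Units.ne_zero _))]; rfl)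
  hDns := by
    rw [mu_eq QP (HypQuad.plusForm_nondegenerate m) (by simp; omega) (plusD_spec _)]
    exact fun h => (exists_nonsq h2).choose_spec (h.map (Units.coeHom F))

theorem preservesPlus_iff (g : GO QP) :
    Cfsg.PreservesSingularClasses (⇑QP) (gm QP g) ↔ g ∈ (setupP h2 hm).M := by
  have hQ := HypQuad.plusForm_nondegenerate (F := F) m
  have hn : 7 ≤ Fintype.card (Fin m ⊕ Fin m) := by simp; omega
  have hk : Fintype.card (Fin m ⊕ Fin m) = 2 * m := by simp; omega
  rw [preserves_iff hQ hk (HypQuad.leftSpace_isMax m) h2 (Units.ne_zero (mu QP g)) g.1 (plusD (mu QP g)).1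
    (mu_spec QP g) (plusD_spec _) (det_plusD _) ?_]
  · show _ ↔ eps QP hQ hn hk g = 1
    rw [Units.ext_iff, coe_eps, Units.val_one, div_eq_one_iff_eq (pow_ne_zero _ (Units.ne_zero _))]
  · rintro _ ⟨y, rfl⟩
    refine ⟨fun i => (mu QP g : F) * y i, ?_⟩
    funext j
    rw [plusD_mulVec]
    rcases j with j | j <;> simp [Sum.inl_injective.extend_apply]

theorem inndiagPlus_eq : inndiagP (⇑QP) = (setupP h2 hm).M.map (conjPO QP) :=
  closure_eq_map QP _ _ fun β =>
    ⟨fun ⟨g, hg, hp, h⟩ => ⟨⟨g, hg⟩, (preservesPlus_iff h2 hm ⟨g, hg⟩).1 hp, (induced_iff QP ⟨g, hg⟩ β).1 h⟩,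
      fun ⟨g, hg, h⟩ => ⟨g.1, g.2, (preservesPlus_iff h2 hm g).2 hg, (induced_iff QP g β).2 h⟩⟩

/-- Graph automorphisms are induced by similitudes of sign `-1`. -/
theorem graph_elim (β : MulAut (Cfsg.POmega F (⇑QP))) {g : GL (Fin m ⊕ Fin m) F}
    (hg : g ∈ Cfsg.Geo.quadSimilarityGroup (F := F) (⇑QP))
    (hp : ¬ Cfsg.PreservesSingularClasses (⇑QP) (g : Matrix (Fin m ⊕ Fin m) (Fin m ⊕ Fin m) F))
    (h : Cfsg.IsInducedBySemilinearPOmega (⇑QP) g (RingEquiv.refl F) β) :
    ∃ x, (setupP h2 hm).e x = -1 ∧ β = conjPO QP x :=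
  ⟨⟨g, hg⟩, (eps_pm QP _ _ _ _).resolve_left fun he => hp ((preservesPlus_iff h2 hm ⟨g, hg⟩).2 he),
    (induced_iff QP ⟨g, hg⟩ β).1 h⟩

theorem sqD_mem_plus (hneg : Setup.NegMem QP) :
    (setupP h2 hm).D * (setupP h2 hm).D ∈ NN QP ↔ Even m := by
  set c := (exists_nonsq h2).choose with hc
  have e : (setupP h2 hm).D * (setupP h2 hm).D = scal QP c * toGO QP (torusP fun _ => c) := by
    refine go_ext QP ?_
    rw [gm_mul, gm_mul, gm_scal, gm_toGO]
    show diagonal _ * diagonal _ = (c : F) • (1 : Matrix _ _ F) * diagonal _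
    rw [smul_one_eq_diagonal, diagonal_mul_diagonal, diagonal_mul_diagonal]
    congr 1
    funext i; rcases i with i | i <;> simp [hc]
  rw [e, scal_mul_mem_NN (setupP h2 hm) hneg c _ (detHom_torusP _),
    spin_torusP h2 (by omega) (exists_nonsq h2).choose_spec]
  exact neg_one_pow_eq_one_iff_even (by decide)

theorem negMem_plus (hodd : Odd (Fintype.card F)) :
    Setup.NegMem QP ↔ ¬ (Odd m ∧ Fintype.card F % 4 = 3) := by
  have h := neg_one_omega_plus (q := Fintype.card F) rfl hodd m (by omega)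
  rw [plus_coe] at h
  refine h.trans ?_
  have hq : Fintype.card F % 4 = 1 ∨ Fintype.card F % 4 = 3 := by have := Nat.odd_iff.1 hodd; omega
  rcases Nat.even_or_odd m with ⟨j, rfl⟩ | hm'
  · have : ¬ Odd (j + j) := by simp [← Nat.not_even_iff_odd]
    simp only [this, false_and, not_false_eq_true, iff_true]
    rw [← two_mul, pow_mul, Nat.pow_mod, Nat.pow_mod _ 2]
    rcases hq with h' | h' <;> rw [h'] <;> norm_num
  · obtain ⟨j, rfl⟩ := hm'
    have : Odd (2 * j + 1) := ⟨j, rfl⟩
    rw [pow_succ, pow_mul, Nat.mul_mod, Nat.pow_mod, Nat.pow_mod _ 2]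
    rcases hq with h' | h' <;> simp [this, h']

end

end Cfsg.Lib.OrthSim
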