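import Cfsg.Agent.Known.OrthSim.Basic

/-!
The conformal groups modulo the special orthogonal group and modulo `Ω`.
-/

set_option autoImplicit false
set_option linter.unusedSectionVars false
set_option linter.style.haveILetI false

namespace Cfsg.Lib.OrthSim

open Matrix Cfsg.Lib.Classical Cfsg.Lib.Classical.Refl

universe u

variable {F : Type u} [Field F] [Fintype F] [DecidableEq F] {ι : Type} [Fintype ι] [DecidableEq ι]

/-- An even-dimensional space in odd characteristic with a sign-one similitude of non-square multiplier. -/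
structure Setup (Q : QuadraticForm F (ι → F)) (k : ℕ) where
  hQ : (QuadraticMap.polarBilin Q).Nondegenerate
  hn : 7 ≤ Fintype.card ι
  hk : Fintype.card ι = 2 * k
  h2 : (2 : F) ≠ 0
  D : GO Q
  hD1 : eps Q hQ hn hk D = 1
  hDns : ¬ IsSquare (mu Q D)

variable {Q : QuadraticForm F (ι → F)} {k : ℕ} (S : Setup Q k)

namespace Setup

/-- `-1` lies in `Ω`. -/
def NegMem (Q : QuadraticForm F (ι → F)) : Prop := ∃ g ∈ Cfsg.Omega F (⇑Q), mat Q g = -1

/-- The sign of a similitude. -/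
noncomputable abbrev e (S : Setup Q k) : GO Q →* Fˣ := eps Q S.hQ S.hn S.hk

/-- The square class of the multiplier. -/
noncomputable abbrev t (S : Setup Q k) : GO Q →* Fˣ := theta Q S.hQ S.hn

/-- `SO` times scalars. -/
noncomputable abbrev K (S : Setup Q k) : Subgroup (GO Q) := KK Q S.hQ S.hn S.hk

include S

theorem hc2 : ringChar F ≠ 2 := fun h => S.h2 (by haveI := ringChar.of_eq h; exact CharTwo.two_eq_zero)

theorem neg_ne : (-1 : Fˣ) ≠ 1 := fun h => S.h2 (by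
  have := congrArg Units.val h; simp at this; linear_combination -this)

theorem mem_K {g : GO Q} : g ∈ S.K ↔ S.e g = 1 ∧ S.t g = 1 := Iff.rfl

theorem t_pm (g : GO Q) : S.t g = 1 ∨ S.t g = -1 := by
  rcases FiniteField.pow_dichotomy S.hc2 (mu Q g).ne_zero with h | h
  · exact Or.inl (Units.ext (by rw [theta_apply, Units.val_pow_eq_pow_val, h]; rfl))
  · exact Or.inr (Units.ext (by rw [theta_apply, Units.val_pow_eq_pow_val, h]; rfl))

theorem t_eq_one_iff (g : GO Q) : S.t g = 1 ↔ IsSquare (mu Q g) :=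
  (FiniteField.unit_isSquare_iff S.hc2 _).symm

theorem t_D : S.t S.D = -1 := (S.t_pm S.D).resolve_left fun h => S.hDns ((S.t_eq_one_iff _).1 h)

theorem exists_gens : ∃ (a b : ι → F) (ha : Q a ≠ 0) (hb : Q b ≠ 0),
    Q a = 1 ∧ ¬ IsSquare (Q a * Q b) ∧ spin Q (refl Q a ha * refl Q b hb) = -1 := by
  classical
  obtain ⟨a, ha⟩ := exists_anisotropic Q S.hQ S.hn
  obtain ⟨b, -, hb⟩ := exists_norm_in_perp Q S.hQ ⊥ (by rw [finrank_bot]; have := S.hn; omega) (mu Q S.D : F)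
  have ha' : Q a ≠ 0 := by rw [ha]; exact one_ne_zero
  have hb' : Q b ≠ 0 := by rw [hb]; exact Units.ne_zero _
  have hns : ¬ IsSquare (Q a * Q b) := by
    rw [ha, hb, one_mul]
    rintro ⟨r, hr⟩
    have hr0 : r ≠ 0 := fun h => (mu Q S.D).ne_zero (by rw [hr, h, mul_zero])
    exact S.hDns ⟨Units.mk0 r hr0, Units.ext hr⟩
  refine ⟨a, b, ha', hb', ha, hns, ?_⟩
  rw [map_mul]
  have hne : spin Q (refl Q a ha') ≠ spin Q (refl Q b hb') := fun h =>
    hns ((spin_eq_iff Q S.h2 S.hQ (by have := S.hn; omega) ha' hb').1 h)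
  rcases Int.units_eq_one_or (spin Q (refl Q a ha')) with h1 | h1 <;>
    rcases Int.units_eq_one_or (spin Q (refl Q b hb')) with h2 | h2 <;> simp_all

/-- The reflection used as an outer element. -/
noncomputable def b0 : GO Q := toGO Q (refl Q S.exists_gens.choose S.exists_gens.choose_spec.choose_spec.choose)

/-- An element of `SO` outside `Ω`. -/
noncomputable def sIso : Cfsg.isometryGroup F (⇑Q) :=
  refl Q S.exists_gens.choose S.exists_gens.choose_spec.choose_spec.choose *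
    refl Q S.exists_gens.choose_spec.choose S.exists_gens.choose_spec.choose_spec.choose_spec.choose

/-- Its image among similitudes. -/
noncomputable def s0 : GO Q := toGO Q S.sIso

theorem spin_sIso : spin Q S.sIso = -1 :=
  S.exists_gens.choose_spec.choose_spec.choose_spec.choose_spec.2.2

theorem det_sIso : detHom Q S.sIso = 1 := by rw [sIso, map_mul, detHom_refl, detHom_refl, neg_mul_neg, one_mul]

theorem omega_iff' {g : Cfsg.isometryGroup F (⇑Q)} (hd : detHom Q g = 1) :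
    g ∈ Cfsg.Omega F (⇑Q) ↔ spin Q g = 1 := by
  rw [mem_omega_iff Q S.h2 S.hQ (by have := S.hn; omega)]
  exact ⟨fun h => h.2, fun h => ⟨hd, h⟩⟩

theorem e_b0 : S.e S.b0 = -1 := by rw [b0, e, eps_toGO Q S.hQ S.hn S.hk, detHom_refl]

theorem t_b0 : S.t S.b0 = 1 := by rw [t_eq_one_iff, b0, mu_toGO Q S.hQ S.hn]; exact IsSquare.one

theorem b0_sq : S.b0 * S.b0 = 1 := by rw [b0, ← map_mul, refl_mul_self, map_one]

theorem b0_inv : S.b0⁻¹ = S.b0 := inv_eq_of_mul_eq_one_left S.b0_sq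

theorem s0_mem : S.s0 ∈ S.K := (mem_KK Q S.hQ S.hn S.hk S.h2).2
  ⟨1, S.sIso, S.det_sIso, by rw [map_one, one_mul]; rfl⟩

theorem nn_le : NN Q ≤ S.K := fun g hg => by
  obtain ⟨c, s, hs, rfl⟩ := (mem_NN Q).1 hg
  exact (mem_KK Q S.hQ S.hn S.hk S.h2).2 ⟨c, s, hom_eq_one_of_omega Q (detHom Q) hs, rfl⟩

theorem K_split {g : GO Q} (hg : g ∈ S.K) : g ∈ NN Q ∨ S.s0 * g ∈ NN Q := by
  obtain ⟨c, h, hd, rfl⟩ := (mem_KK Q S.hQ S.hn S.hk S.h2).1 hg
  rcases Int.units_eq_one_or (spin Q h) with e | e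
  · exact Or.inl ((mem_NN Q).2 ⟨c, h, (S.omega_iff' hd).2 e, rfl⟩)
  · refine Or.inr ((mem_NN Q).2 ⟨c, S.sIso * h, (S.omega_iff' ?_).2 ?_, ?_⟩)
    · rw [map_mul, S.det_sIso, hd, one_mul]
    · rw [map_mul, S.spin_sIso, e, neg_mul_neg, one_mul]
    · rw [s0, map_mul, ← mul_assoc, ← scal_comm, mul_assoc]

theorem s0_sq : S.s0 * S.s0 ∈ NN Q := by
  refine (mem_NN Q).2 ⟨1, S.sIso * S.sIso, (S.omega_iff' ?_).2 ?_, by rw [map_one, one_mul, map_mul]; rfl⟩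
  · rw [map_mul, S.det_sIso, one_mul]
  · rw [map_mul, S.spin_sIso, neg_mul_neg, one_mul]

theorem mul_mem_of_out {x y : GO Q} (hx : x ∈ S.K) (hy : y ∈ S.K) (hx' : x ∉ NN Q) (hy' : y ∉ NN Q) :
    x * y ∈ NN Q := by
  have h1 := (S.K_split hx).resolve_left hx'
  have h2 := (S.K_split hy).resolve_left hy'
  have hN := nn_normal Q
  have h3 : S.s0⁻¹ * (S.s0 * x) * S.s0⁻¹⁻¹ * (S.s0 * S.s0)⁻¹ * (S.s0 * y) ∈ NN Q :=
    mul_mem (mul_mem (hN.conj_mem _ h1 _) (inv_mem S.s0_sq)) h2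
  convert h3 using 1
  group

theorem K_eq_NN (hneg : ¬ NegMem Q) : S.K = NN Q := by
  refine le_antisymm (fun g hg => ?_) S.nn_le
  obtain ⟨c, h, hd, rfl⟩ := (mem_KK Q S.hQ S.hn S.hk S.h2).1 hg
  rcases Int.units_eq_one_or (spin Q h) with e | e
  · exact (mem_NN Q).2 ⟨c, h, (S.omega_iff' hd).2 e, rfl⟩
  obtain ⟨n1, hn1⟩ := exists_iso_of_mu Q S.hQ S.hn (g := scal Q (-1))
    (by rw [mu_scal Q S.hQ S.hn, neg_mul_neg, one_mul])
  have hmat : mat Q n1 = -1 := by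
    rw [← gm_toGO, ← hn1, gm_scal, Units.val_neg, Units.val_one, neg_one_smul]
  have hd1 : detHom Q n1 = 1 := by rw [← eps_toGO Q S.hQ S.hn S.hk, ← hn1, eps_scal Q S.hQ S.hn S.hk]
  have hs1 : spin Q n1 = -1 := (Int.units_eq_one_or _).resolve_left fun h1 =>
    hneg ⟨n1, (S.omega_iff' hd1).2 h1, hmat⟩
  refine (mem_NN Q).2 ⟨c * -1, n1 * h, (S.omega_iff' ?_).2 ?_, ?_⟩
  · rw [map_mul, hd1, hd, one_mul]
  · rw [map_mul, hs1, e, neg_mul_neg, one_mul]
  · rw [map_mul (toGO Q), ← hn1, ← mul_assoc, ← map_mul, mul_assoc c, neg_mul_neg, mul_one, mul_one]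

theorem not_mem_of_spin (hneg : NegMem Q) {h : Cfsg.isometryGroup F (⇑Q)} (hs : spin Q h = -1) :
    toGO Q h ∉ NN Q := by
  intro hh
  obtain ⟨c, s, hs', e⟩ := (mem_NN Q).1 hh
  have hc : c * c = 1 := by
    have := congrArg (mu Q) e
    rw [mu_toGO Q S.hQ S.hn, mu_mul Q S.hQ S.hn, mu_scal Q S.hQ S.hn, mu_toGO Q S.hQ S.hn, mul_one] at this
    exact this.symm
  have hmem : h ∈ Cfsg.Omega F (⇑Q) := by
    have hc' : (c : F) = 1 ∨ (c : F) = -1 :=
      mul_self_eq_one_iff.1 (by rw [← Units.val_mul, hc]; rfl)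
    rcases hc' with h1 | h1
    · rw [show c = 1 from Units.ext h1, map_one, one_mul] at e
      exact toGO_injective Q e ▸ hs'
    · obtain ⟨g, hg, hgm⟩ := hneg
      have e2 : scal Q c = toGO Q g := go_ext Q (by rw [gm_scal, gm_toGO, hgm, h1, neg_one_smul])
      rw [e2, ← map_mul] at e
      exact toGO_injective Q e ▸ mul_mem hg hs'
  have := hom_eq_one_of_omega Q (spin Q) hmem
  rw [hs] at this
  exact absurd this (by decide)

theorem s0_notMem (hneg : NegMem Q) : S.s0 ∉ NN Q := S.not_mem_of_spin hneg S.spin_sIso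

theorem conjIso_refl (g : GO Q) {v : ι → F} (hv : Q v ≠ 0) (hgv : Q (gm Q g *ᵥ v) ≠ 0) :
    conjIso Q g (refl Q v hv) = refl Q (gm Q g *ᵥ v) hgv := by
  refine ext_mulVec Q fun x => ?_
  show (gm Q g * Cfsg.reflectionMatrix (⇑Q) v * gm Q g⁻¹) *ᵥ x = Cfsg.reflectionMatrix (⇑Q) (gm Q g *ᵥ v) *ᵥ x
  have hinv : gm Q g *ᵥ (gm Q g⁻¹ *ᵥ x) = x := by
    rw [mulVec_mulVec, ← gm_mul, mul_inv_cancel]; exact one_mulVec x
  have hp : QuadraticMap.polar (⇑Q) (gm Q g *ᵥ v) x =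
      (mu Q g : F) * QuadraticMap.polar (⇑Q) v (gm Q g⁻¹ *ᵥ x) := by
    conv_lhs => rw [← hinv]
    rw [QuadraticMap.polar, QuadraticMap.polar, ← mulVec_add, mu_spec, mu_spec, mu_spec]
    ring
  rw [← mulVec_mulVec, ← mulVec_mulVec, mulVec_eq, mulVec_eq, mulVec_sub, mulVec_smul, hinv, hp, mu_spec]
  congr 2
  have h0 : (mu Q g : F) ≠ 0 := Units.ne_zero _
  field_simp

theorem comm_mem : S.b0 * S.D * S.b0⁻¹ * S.D⁻¹ ∈ S.K := by
  rw [S.mem_K]
  constructor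
  · rw [map_mul, map_mul, map_mul, map_inv, map_inv, mul_right_comm, mul_inv_cancel_right, mul_inv_cancel]
  · rw [map_mul, map_mul, map_mul, map_inv, map_inv, mul_right_comm, mul_inv_cancel_right, mul_inv_cancel]

theorem comm_notMem (hneg : NegMem Q) : S.b0 * S.D * S.b0⁻¹ * S.D⁻¹ ∉ NN Q := by
  set a := S.exists_gens.choose
  have ha : Q a ≠ 0 := S.exists_gens.choose_spec.choose_spec.choose
  have hDa : Q (gm Q S.D *ᵥ a) ≠ 0 := by rw [mu_spec]; exact mul_ne_zero (Units.ne_zero _) ha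
  have e : S.b0 * S.D * S.b0⁻¹ * S.D⁻¹ = toGO Q (refl Q a ha * conjIso Q S.D (refl Q a ha)) := by
    rw [b0_inv, map_mul, toGO_conjIso, mul_assoc, mul_assoc, ← mul_assoc S.D]; rfl
  rw [e, S.conjIso_refl _ ha hDa]
  refine S.not_mem_of_spin hneg ?_
  have hns : ¬ IsSquare (Q a * Q (gm Q S.D *ᵥ a)) := by
    rw [mu_spec]
    rintro ⟨r, hr⟩
    have hr0 : r / Q a ≠ 0 := div_ne_zero (fun h => by
      rw [h, mul_zero, mul_eq_zero, mul_eq_zero] at hr
      simp [ha] at hr) ha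
    refine S.hDns ⟨Units.mk0 _ hr0, Units.ext ?_⟩
    show (mu Q S.D : F) = r / Q a * (r / Q a)
    field_simp
    linear_combination hr
  classical
  have hne : spin Q (refl Q a ha) ≠ spin Q (refl Q _ hDa) := fun h =>
    hns ((spin_eq_iff Q S.h2 S.hQ (by have := S.hn; omega) ha hDa).1 h)
  rw [map_mul]
  rcases Int.units_eq_one_or (spin Q (refl Q a ha)) with h1 | h1 <;>
    rcases Int.units_eq_one_or (spin Q (refl Q _ hDa)) with h2 | h2 <;> simp_all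

theorem D_notMem : S.D ∉ S.K := fun h => S.neg_ne (S.t_D ▸ (S.mem_K.1 h).2)

theorem sq_mem_K (g : GO Q) : g * g ∈ S.K := by
  rw [S.mem_K, map_mul, map_mul]
  refine ⟨?_, ?_⟩
  · rcases eps_pm Q S.hQ S.hn S.hk g with h | h <;> simp [h]
  · rcases S.t_pm g with h | h <;> simp [h]

theorem cover_e {g : GO Q} (hg : S.e g = 1) : g ∈ S.K ∨ S.D * g ∈ S.K := by
  rcases S.t_pm g with h | h
  · exact Or.inl (S.mem_K.2 ⟨hg, h⟩)
  · exact Or.inr (S.mem_K.2 ⟨by rw [map_mul, hg, mul_one]; exact S.hD1, by rw [map_mul, h, S.t_D, neg_mul_neg, one_mul]⟩)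

theorem e_b0_mul {g : GO Q} (hg : S.e g = -1) : S.e (S.b0 * g) = 1 := by
  rw [map_mul, S.e_b0, hg, neg_mul_neg, one_mul]

theorem psoAut_eq' : Cfsg.psoAut F (⇑Q) = S.K.map (conjPO Q) := by
  rw [psoAut_eq]
  ext g
  rw [map_sup_scal Q ((detHom Q).ker.map (toGO Q)) g]
  suffices h : (detHom Q).ker.map (toGO Q) ⊔ (scal Q).range = S.K by rw [h]
  refine le_antisymm (sup_le ?_ ?_) fun x hx => ?_
  · rintro _ ⟨s, hs, rfl⟩
    exact (mem_KK Q S.hQ S.hn S.hk S.h2).2 ⟨1, s, hs, by rw [map_one, one_mul]⟩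
  · rintro _ ⟨c, rfl⟩
    exact (mem_KK Q S.hQ S.hn S.hk S.h2).2 ⟨c, 1, map_one _, by rw [map_one (toGO Q), mul_one]⟩
  · obtain ⟨c, h, hd, rfl⟩ := (mem_KK Q S.hQ S.hn S.hk S.h2).1 hx
    rw [scal_comm]
    exact Subgroup.mul_mem_sup ⟨h, hd, rfl⟩ ⟨c, rfl⟩

omit S in
theorem inn_eq' : Cfsg.Inn (Cfsg.POmega F (⇑Q)) = (NN Q).map (conjPO Q) := by
  rw [inn_eq]
  ext g
  rw [map_sup_scal Q ((Cfsg.Omega F (⇑Q)).map (toGO Q)) g]
  suffices h : (Cfsg.Omega F (⇑Q)).map (toGO Q) ⊔ (scal Q).range = NN Q by rw [h]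
  refine le_antisymm (sup_le ?_ ?_) fun x hx => ?_
  · rintro _ ⟨s, hs, rfl⟩
    exact (mem_NN Q).2 ⟨1, s, hs, by rw [map_one, one_mul]⟩
  · rintro _ ⟨c, rfl⟩
    exact (mem_NN Q).2 ⟨c, 1, one_mem _, by rw [map_one (toGO Q), mul_one]⟩
  · obtain ⟨c, h, hd, rfl⟩ := (mem_NN Q).1 hx
    rw [scal_comm]
    exact Subgroup.mul_mem_sup ⟨h, hd, rfl⟩ ⟨c, rfl⟩

theorem ker_le_NN : (conjPO Q).ker ≤ NN Q := by
  rw [conjPO_ker Q S.hQ S.hn]
  rintro _ ⟨c, rfl⟩
  exact (mem_NN Q).2 ⟨c, 1, one_mem _, by rw [map_one, mul_one]⟩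

theorem pgo_mod_pso : ∃ φ : ↥(Cfsg.pgoAut F (⇑Q)) →* Multiplicative (ZMod 2 × ZMod 2),
    Function.Surjective φ ∧ φ.ker = (Cfsg.psoAut F (⇑Q)).subgroupOf (Cfsg.pgoAut F (⇑Q)) := by
  rw [pgoAut_eq, S.psoAut_eq']
  haveI : S.K.Normal := by unfold K KK; infer_instance
  obtain ⟨φ, h1, h2⟩ := exists_klein (S.K.subgroupOf (⊤ : Subgroup (GO Q))) (a := ⟨S.D, trivial⟩) (b := ⟨S.b0, trivial⟩)
    (S.sq_mem_K _) (S.sq_mem_K _)
    (by
      rw [Subgroup.mem_subgroupOf]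
      refine S.mem_K.2 ⟨?_, ?_⟩ <;>
        simp only [Subgroup.coe_mul, Subgroup.coe_inv, map_mul, map_inv] <;>
        rw [mul_right_comm, mul_inv_cancel_right, mul_inv_cancel])
    S.D_notMem
    (fun h => S.neg_ne (S.e_b0 ▸ (S.mem_K.1 h).1))
    (fun h => S.neg_ne (by
      have := (S.mem_K.1 h).1
      change S.e (S.D * S.b0) = 1 at this
      rwa [map_mul, show S.e S.D = 1 from S.hD1, S.e_b0, one_mul] at this))
    (fun g => by
      rcases eps_pm Q S.hQ S.hn S.hk g.1 with h | h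
      · rcases S.cover_e h with h' | h'
        · exact Or.inl h'
        · exact Or.inr (Or.inl h')
      · rcases S.cover_e (S.e_b0_mul h) with h' | h'
        · exact Or.inr (Or.inr (Or.inl h'))
        · exact Or.inr (Or.inr (Or.inr h')))
  exact exists_descend S.K (conjPO Q) ⊤ φ h1 h2 ((S.ker_le_NN).trans S.nn_le)

theorem relIndex_map : (Cfsg.Inn (Cfsg.POmega F (⇑Q))).relIndex (Cfsg.psoAut F (⇑Q)) = (NN Q).relIndex S.K := by
  rw [inn_eq', S.psoAut_eq', Subgroup.relIndex_map_map, sup_eq_left.2 S.ker_le_NN,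
    sup_eq_left.2 (S.ker_le_NN.trans S.nn_le)]

theorem relIndex_one (hneg : ¬ NegMem Q) :
    (Cfsg.Inn (Cfsg.POmega F (⇑Q))).relIndex (Cfsg.psoAut F (⇑Q)) = 1 := by
  rw [S.relIndex_map, S.K_eq_NN hneg, Subgroup.relIndex_self]

theorem relIndex_two (hneg : NegMem Q) :
    (Cfsg.Inn (Cfsg.POmega F (⇑Q))).relIndex (Cfsg.psoAut F (⇑Q)) = 2 := by
  rw [S.relIndex_map, Subgroup.relIndex, Subgroup.index_eq_two_iff]
  refine ⟨⟨S.s0, S.s0_mem⟩, fun g => ?_⟩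
  rw [Subgroup.mem_subgroupOf, Subgroup.mem_subgroupOf, Subgroup.coe_mul]
  have hN := nn_normal Q
  rcases S.K_split g.2 with h | h
  · refine Or.inr ⟨h, fun h' => S.s0_notMem hneg ?_⟩
    have := mul_mem (inv_mem h) h'
    rwa [inv_mul_cancel_left] at this
  · refine Or.inl ⟨hN.mem_comm h, fun h' => S.s0_notMem hneg ?_⟩
    have := mul_mem h (inv_mem h')
    rwa [mul_inv_cancel_right] at this

theorem pgo_mod_inn_one (hneg : ¬ NegMem Q) : ∃ φ : ↥(Cfsg.pgoAut F (⇑Q)) →* Multiplicative (ZMod 2 × ZMod 2),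
    Function.Surjective φ ∧ φ.ker = (Cfsg.Inn (Cfsg.POmega F (⇑Q))).subgroupOf (Cfsg.pgoAut F (⇑Q)) := by
  have h := S.pgo_mod_pso
  rwa [S.psoAut_eq', S.K_eq_NN hneg, ← inn_eq'] at h

theorem pgo_mod_inn_two (hneg : NegMem Q) : ∃ φ : ↥(Cfsg.pgoAut F (⇑Q)) →* DihedralGroup 4,
    Function.Surjective φ ∧ φ.ker = (Cfsg.Inn (Cfsg.POmega F (⇑Q))).subgroupOf (Cfsg.pgoAut F (⇑Q)) := by
  rw [pgoAut_eq, inn_eq']
  have hN := nn_normal Q
  suffices h : ∃ φ : ↥(⊤ : Subgroup (GO Q)) →* DihedralGroup 4, Function.Surjective φ ∧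
      φ.ker = (NN Q).subgroupOf ⊤ by
    obtain ⟨φ, h1, h2⟩ := h
    exact exists_descend (NN Q) (conjPO Q) ⊤ φ h1 h2 S.ker_le_NN
  -- choose the rotation
  obtain ⟨r, hr1, hr2, hrb⟩ : ∃ r : GO Q, r * r * S.s0⁻¹ ∈ NN Q ∧ (S.e r = 1 ∧ S.t r = -1 ∨ S.e r = -1 ∧ S.t r = -1) ∧
      S.b0 * r * S.b0⁻¹ * r ∈ NN Q := by
    have hs' : S.s0⁻¹ ∈ S.K := inv_mem S.s0_mem
    have hs'' : S.s0⁻¹ ∉ NN Q := fun h => S.s0_notMem hneg (by simpa using inv_mem h)
    have e1 : S.b0 * S.D * S.b0⁻¹ * S.D = S.b0 * S.D * S.b0⁻¹ * S.D⁻¹ * (S.D * S.D) := by group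
    by_cases hDD : S.D * S.D ∈ NN Q
    · refine ⟨S.b0 * S.D, ?_, Or.inr ⟨by rw [map_mul, S.e_b0, show S.e S.D = 1 from S.hD1, mul_one],
        by rw [map_mul, S.t_b0, S.t_D, one_mul]⟩, ?_⟩
      · refine S.mul_mem_of_out (S.sq_mem_K _) hs' ?_ hs''
        rw [show S.b0 * S.D * (S.b0 * S.D) = S.b0 * S.D * S.b0⁻¹ * S.D by rw [b0_inv]; group, e1]
        exact fun h => S.comm_notMem hneg (by simpa using mul_mem h (inv_mem hDD))
      · rw [show S.b0 * (S.b0 * S.D) * S.b0⁻¹ * (S.b0 * S.D) = S.b0 * S.b0 * (S.D * S.D) by group, S.b0_sq,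
          one_mul]
        exact hDD
    · refine ⟨S.D, S.mul_mem_of_out (S.sq_mem_K _) hs' hDD hs'', Or.inl ⟨S.hD1, S.t_D⟩, ?_⟩
      rw [e1]
      exact S.mul_mem_of_out S.comm_mem (S.sq_mem_K _) (S.comm_notMem hneg) hDD
  have htr : S.t r = -1 := by rcases hr2 with h | h <;> exact h.2
  have her : S.e r = 1 ∨ S.e r = -1 := by rcases hr2 with h | h <;> simp [h.1]
  have hts : S.t S.s0 = 1 := (S.mem_K.1 S.s0_mem).2
  have hes : S.e S.s0 = 1 := (S.mem_K.1 S.s0_mem).1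
  have hnt : ∀ x, S.t x = -1 → x ∉ NN Q := fun x hx h => S.neg_ne (hx ▸ (S.mem_K.1 (S.nn_le h)).2)
  have hne : ∀ x, S.e x = -1 → x ∉ NN Q := fun x hx h => S.neg_ne (hx ▸ (S.mem_K.1 (S.nn_le h)).1)
  have hrot : ∀ x, S.t x = -1 → (S.e x = S.e r) → r * x ∈ S.K := fun x hx hx' => S.mem_K.2
    ⟨by rw [map_mul, hx']; rcases her with h | h <;> simp [h], by rw [map_mul, htr, hx, neg_mul_neg, one_mul]⟩
  exact exists_dihedral_four ((NN Q).subgroupOf (⊤ : Subgroup (GO Q))) (a := ⟨r, trivial⟩) (b := ⟨S.b0, trivial⟩)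
    (s := ⟨S.s0, trivial⟩) hr1 S.s0_sq
    (Subgroup.mem_subgroupOf.2 (by
      show S.b0 * S.b0 ∈ NN Q
      rw [S.b0_sq]; exact one_mem _))
    hrb (S.s0_notMem hneg) (hnt r htr)
    (hnt (S.s0 * r) (by rw [map_mul, hts, htr, one_mul]))
    (hne _ S.e_b0)
    (hne (S.b0 * S.s0) (by rw [map_mul, S.e_b0, hes, mul_one]))
    (hnt (S.b0 * r) (by rw [map_mul, S.t_b0, htr, one_mul]))
    (hnt (S.b0 * (S.s0 * r)) (by rw [map_mul, map_mul, S.t_b0, hts, htr, one_mul, one_mul]))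
    (fun g => by
      show g.1 ∈ NN Q ∨ S.s0 * g.1 ∈ NN Q ∨ r * g.1 ∈ NN Q ∨ S.s0 * (r * g.1) ∈ NN Q ∨ S.b0 * g.1 ∈ NN Q ∨
        S.s0 * (S.b0 * g.1) ∈ NN Q ∨ r * (S.b0 * g.1) ∈ NN Q ∨ S.s0 * (r * (S.b0 * g.1)) ∈ NN Q
      rcases S.t_pm g.1 with ht | ht
      · rcases eps_pm Q S.hQ S.hn S.hk g.1 with he | he
        · rcases S.K_split (S.mem_K.2 ⟨he, ht⟩) with h | h
          · exact Or.inl h
          · exact Or.inr (Or.inl h)
        · have : S.b0 * g.1 ∈ S.K := S.mem_K.2 ⟨S.e_b0_mul he, by rw [map_mul, S.t_b0, ht, one_mul]⟩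
          rcases S.K_split this with h | h
          · exact Or.inr (Or.inr (Or.inr (Or.inr (Or.inl h))))
          · exact Or.inr (Or.inr (Or.inr (Or.inr (Or.inr (Or.inl h)))))
      · by_cases he : S.e g.1 = S.e r
        · rcases S.K_split (hrot _ ht he) with h | h
          · exact Or.inr (Or.inr (Or.inl h))
          · exact Or.inr (Or.inr (Or.inr (Or.inl h)))
        · have he' : S.e (S.b0 * g.1) = S.e r := by
            rw [map_mul, S.e_b0]
            rcases eps_pm Q S.hQ S.hn S.hk g.1 with h | h <;> rcases her with h' | h' <;> simp_all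
          rcases S.K_split (hrot _ (by rw [map_mul, S.t_b0, ht, one_mul]) he') with h | h
          · exact Or.inr (Or.inr (Or.inr (Or.inr (Or.inr (Or.inr (Or.inl h))))))
          · exact Or.inr (Or.inr (Or.inr (Or.inr (Or.inr (Or.inr (Or.inr h)))))))

/-- The sign-one similitudes. -/
noncomputable abbrev M (S : Setup Q k) : Subgroup (GO Q) := S.e.ker

theorem inndiag_one (hneg : ¬ NegMem Q) : ∃ φ : ↥(S.M.map (conjPO Q)) →* Multiplicative (ZMod 2),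
    Function.Surjective φ ∧ φ.ker = (Cfsg.Inn (Cfsg.POmega F (⇑Q))).subgroupOf (S.M.map (conjPO Q)) := by
  rw [inn_eq']
  have hN := nn_normal Q
  obtain ⟨φ, h1, h2⟩ := exists_cyclic_two ((NN Q).subgroupOf S.M) (a := ⟨S.D, S.hD1⟩)
    (fun h => S.D_notMem (S.nn_le h))
    (fun g => by
      rcases S.cover_e g.2 with h | h
      · exact Or.inl (Subgroup.mem_subgroupOf.2 (S.K_eq_NN hneg ▸ h))
      · exact Or.inr (Subgroup.mem_subgroupOf.2 (S.K_eq_NN hneg ▸ h)))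
  exact exists_descend (NN Q) (conjPO Q) S.M φ h1 h2 S.ker_le_NN

theorem inndiag_four (hneg : NegMem Q) (hDD : S.D * S.D ∉ NN Q) :
    ∃ φ : ↥(S.M.map (conjPO Q)) →* Multiplicative (ZMod 4),
      Function.Surjective φ ∧ φ.ker = (Cfsg.Inn (Cfsg.POmega F (⇑Q))).subgroupOf (S.M.map (conjPO Q)) := by
  rw [inn_eq']
  have hN := nn_normal Q
  have hs' : S.s0⁻¹ ∉ NN Q := fun h => S.s0_notMem hneg (by simpa using inv_mem h)
  obtain ⟨φ, h1, h2⟩ := exists_cyclic_four ((NN Q).subgroupOf S.M) (a := ⟨S.D, S.hD1⟩)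
    (s := ⟨S.s0, (S.mem_K.1 S.s0_mem).1⟩)
    (S.mul_mem_of_out (S.sq_mem_K _) (inv_mem S.s0_mem) hDD hs') S.s0_sq (S.s0_notMem hneg)
    (fun h => S.D_notMem (S.nn_le h))
    (fun h => S.D_notMem ((Subgroup.mul_mem_cancel_left S.K S.s0_mem).1 (S.nn_le h)))
    (fun g => by
      rcases S.cover_e g.2 with h | h <;> rcases S.K_split h with h' | h'
      · exact Or.inl h'
      · exact Or.inr (Or.inl h')
      · exact Or.inr (Or.inr (Or.inl h'))
      · exact Or.inr (Or.inr (Or.inr h')))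
  exact exists_descend (NN Q) (conjPO Q) S.M φ h1 h2 S.ker_le_NN

theorem inndiag_klein (hneg : NegMem Q) (hDD : S.D * S.D ∈ NN Q) :
    ∃ φ : ↥(S.M.map (conjPO Q)) →* Multiplicative (ZMod 2 × ZMod 2),
      Function.Surjective φ ∧ φ.ker = (Cfsg.Inn (Cfsg.POmega F (⇑Q))).subgroupOf (S.M.map (conjPO Q)) := by
  rw [inn_eq']
  have hN := nn_normal Q
  have hcomm : S.D * S.s0 * S.D⁻¹ * S.s0⁻¹ ∈ NN Q := by
    have hKn : S.K.Normal := by unfold K KK; infer_instance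
    have hc : S.D * S.s0 * S.D⁻¹ ∉ NN Q := fun h => S.s0_notMem hneg (by
      have := hN.conj_mem _ h S.D⁻¹
      simpa [mul_assoc] using this)
    have hs' : S.s0⁻¹ ∉ NN Q := fun h => S.s0_notMem hneg (by simpa using inv_mem h)
    exact S.mul_mem_of_out (hKn.conj_mem _ S.s0_mem _) (inv_mem S.s0_mem) hc hs'
  obtain ⟨φ, h1, h2⟩ := exists_klein ((NN Q).subgroupOf S.M) (a := ⟨S.D, S.hD1⟩)
    (b := ⟨S.s0, (S.mem_K.1 S.s0_mem).1⟩) hDD S.s0_sq hcomm
    (fun h => S.D_notMem (S.nn_le h)) (S.s0_notMem hneg)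
    (fun h => S.D_notMem ((Subgroup.mul_mem_cancel_right S.K S.s0_mem).1 (S.nn_le h)))
    (fun g => by
      rcases S.cover_e g.2 with h | h <;> rcases S.K_split h with h' | h'
      · exact Or.inl h'
      · exact Or.inr (Or.inr (Or.inl h'))
      · exact Or.inr (Or.inl h')
      · refine Or.inr (Or.inr (Or.inr ?_))
        show S.D * (S.s0 * g.1) ∈ NN Q
        have e : S.D * (S.s0 * g.1) = (S.D * S.s0 * S.D⁻¹ * S.s0⁻¹) * (S.s0 * (S.D * g.1)) := by group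
        rw [e]
        exact mul_mem hcomm h')
  exact exists_descend (NN Q) (conjPO Q) S.M φ h1 h2 S.ker_le_NN

end Setup

end Cfsg.Lib.OrthSim
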