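import Cfsg.Agent.Known.OmegaClasses
import Cfsg.Prelude.Def_LieTypeDatum

/-!
Similitudes of a hyperbolic form and the two classes of maximal totally singular subspaces.
-/

set_option autoImplicit false
set_option linter.unusedSectionVars false
set_option linter.style.haveILetI false

namespace Cfsg.Lib.OrthSim

open Matrix Cfsg.Lib.Classical Cfsg.Lib.Classical.Refl

universe u

variable {K : Type u} [Field K] {ι : Type} [Fintype ι] [DecidableEq ι] {Q : QuadraticForm K (ι → K)}
  (hQ : (QuadraticMap.polarBilin Q).Nondegenerate) {m : ℕ} (hι : Fintype.card ι = 2 * m)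
  {L : Submodule K (ι → K)} (hL : HypQuad.IsMax Q m L)

include hQ hι hL

/-- With one Lagrangian present, maximal totally singular means of dimension `m`. -/
theorem isMaxTS_iff (U : Submodule K (ι → K)) :
    Cfsg.IsMaxTotallySingular (⇑Q) U ↔ HypQuad.IsMax Q m U := by
  have hV : Module.finrank K (ι → K) = 2 * m := by simp [hι]
  constructor
  · rintro ⟨hs, hmax⟩
    refine ⟨?_, hs⟩
    have h1 : L ⊓ HypQuad.perp Q U ≤ U := by
      have hW : U ⊔ (L ⊓ HypQuad.perp Q U) = U := by
        refine hmax _ (fun w hw => ?_) le_sup_left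
        obtain ⟨a, ha, b, hb, rfl⟩ := Submodule.mem_sup.1 hw
        rw [QuadraticMap.map_add (f := Q), hs a ha, hL.2 b hb.1, HypQuad.mem_perp Q |>.1 hb.2 a ha, add_zero,
          add_zero]
      exact fun x hx => hW ▸ Submodule.mem_sup_right hx
    have h2 : HypQuad.perp Q (U ⊔ L) ≤ U ⊓ L := fun x hx => by
      have hxL : x ∈ L := by
        rw [← HypQuad.perp_eq Q hQ hV hL, HypQuad.mem_perp]
        exact fun w hw => hx w (Submodule.mem_sup_right hw)
      exact ⟨h1 ⟨hxL, fun w hw => hx w (Submodule.mem_sup_left hw)⟩, hxL⟩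
    have h3 := Submodule.finrank_mono h2
    have h4 := Submodule.finrank_mono (HypQuad.le_perp Q hs)
    have h5 := Submodule.finrank_sup_add_finrank_inf_eq U L
    have h6 := Submodule.finrank_le (U ⊔ L)
    rw [HypQuad.finrank_perp Q hQ, hV] at h3 h4
    rw [hV] at h6
    rw [hL.1] at h5
    omega
  · intro hU
    refine ⟨hU.2, fun W hW hUW => le_antisymm ?_ hUW⟩
    intro x hx
    rw [← HypQuad.perp_eq Q hQ hV hU, HypQuad.mem_perp]
    exact fun w hw => HypQuad.polar_zero_of_singular Q hW (hUW hw) hx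

omit hL in
theorem parity_sum {U W X : Submodule K (ι → K)} (hU : HypQuad.IsMax Q m U) (hW : HypQuad.IsMax Q m W)
    (hX : HypQuad.IsMax Q m X) :
    (Even (m - Module.finrank K ↥(U ⊓ X)) ↔
      (Even (m - Module.finrank K ↥(U ⊓ W)) ↔ Even (m - Module.finrank K ↥(W ⊓ X)))) := by
  have h := HypQuad.parity Q hQ (by simp [hι]) hU hW hX
  rw [Nat.even_add, Nat.even_add] at h
  exact h.symm

/-- A similitude preserves the two classes exactly when its determinant is the power of its multiplier,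
given one such similitude that fixes a Lagrangian. -/
theorem preserves_iff [Fintype K] (h2 : (2 : K) ≠ 0) {μ : K} (hμ : μ ≠ 0) (g d0 : GL ι K)
    (hg : ∀ v, Q ((g : Matrix ι ι K) *ᵥ v) = μ * Q v)
    (hd : ∀ v, Q ((d0 : Matrix ι ι K) *ᵥ v) = μ * Q v)
    (hdet : (d0 : Matrix ι ι K).det = μ ^ m) (hfix : ∀ x ∈ L, (d0 : Matrix ι ι K) *ᵥ x ∈ L) :
    Cfsg.PreservesSingularClasses (⇑Q) (g : Matrix ι ι K) ↔ (g : Matrix ι ι K).det = μ ^ m := by
  classical
  let f : GL ι K → ((ι → K) →ₗ[K] (ι → K)) := fun a => Matrix.mulVecLin (a : Matrix ι ι K)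
  have finj : ∀ a, Function.Injective (f a) := fun a => Matrix.mulVec_injective_iff_isUnit.2 (Units.isUnit _)
  have fmul : ∀ a b, f (a * b) = (f a).comp (f b) := fun a b => by
    simp only [f, Units.val_mul, Matrix.mulVecLin_mul]
  have hfr : ∀ a (U : Submodule K (ι → K)), Module.finrank K ↥(U.map (f a)) = Module.finrank K U := fun a U =>
    (LinearEquiv.finrank_eq (Submodule.equivMapOfInjective _ (finj a) U)).symm
  have hmem : d0⁻¹ * g ∈ Cfsg.isometryGroup K (⇑Q) := (mem_iff Q).2 fun v => mul_left_cancel₀ hμ (by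
    rw [← hd, mulVec_mulVec, ← Units.val_mul, mul_inv_cancel_left, hg])
  let h : Cfsg.isometryGroup K (⇑Q) := ⟨d0⁻¹ * g, hmem⟩
  have hgh : g = d0 * (h : GL ι K) := (mul_inv_cancel_left d0 g).symm
  have hdet' : (g : Matrix ι ι K).det = μ ^ m * ((h : GL ι K) : Matrix ι ι K).det := by
    rw [← hdet, ← Matrix.det_mul, ← Units.val_mul, ← hgh]
  have hne : Fintype.card K ≠ 2 ∨ Fintype.card ι ≠ 4 := Or.inl fun hc => h2 (by
    haveI := ringChar.of_eq (show ringChar K = 2 from FiniteField.even_card_iff_char_two.mpr (by rw [hc]))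
    exact CharTwo.two_eq_zero)
  have hLfix : L.map (f d0) = L := Submodule.eq_of_le_of_finrank_le
    (by rintro _ ⟨x, hx, rfl⟩; exact hfix x hx) (by rw [hfr])
  have hmax0 : ∀ U, HypQuad.IsMax Q m U → HypQuad.IsMax Q m (U.map (f d0)) := fun U hU => ⟨(hfr d0 U).trans hU.1, by
    rintro _ ⟨x, hx, rfl⟩
    show Q ((d0 : Matrix ι ι K) *ᵥ x) = 0
    rw [hd, hU.2 x hx, mul_zero]⟩
  have hzero : ∀ U, HypQuad.IsMax Q m U → Even (m - Module.finrank K ↥(U ⊓ U.map (f d0))) := fun U hU => by
    refine (parity_sum hQ hι hU hL (hmax0 U hU)).2 (iff_of_eq (congrArg (fun n => Even (m - n)) ?_))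
    conv_rhs => rw [← hLfix, ← Submodule.map_inf _ (finj d0), hfr, inf_comm]
  have key : ∀ U, HypQuad.IsMax Q m U →
      (Cfsg.SameParityClass U (Cfsg.imageSubmodule (g : Matrix ι ι K) U) ↔
        ((h : GL ι K) : Matrix ι ι K).det = 1) := by
    intro U hU
    have hhU := OmegaCls.isMax_map h hU
    have e : Cfsg.imageSubmodule (g : Matrix ι ι K) U = (U.map (f (h : GL ι K))).map (f d0) := by
      rw [Cfsg.imageSubmodule, ← Submodule.map_comp, ← fmul, ← hgh]
      rfl
    rw [Cfsg.SameParityClass, hU.1, e, parity_sum hQ hι hU hhU (hmax0 _ hhU),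
      iff_true_right (hzero _ hhU), OmegaCls.parity_dickson hQ hι hne hU h, OmegaCls.det_dickson h2 hQ h]
    rcases Int.units_eq_one_or (dickson Q hQ h) with e | e
    · simp [e]
    · rw [e]
      refine iff_of_false (by decide) fun hc => h2 ?_
      push_cast at hc
      linear_combination -hc
  have hpow : μ ^ m ≠ 0 := pow_ne_zero _ hμ
  rw [hdet', mul_eq_left₀ hpow]
  exact ⟨fun hp => (key L hL).1 (hp L ((isMaxTS_iff hQ hι hL L).2 hL)),
    fun hd' U hU => (key U ((isMaxTS_iff hQ hι hL U).1 hU)).2 hd'⟩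

end Cfsg.Lib.OrthSim
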