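import Cfsg.Agent.Known.OrthSim.Main
import Cfsg.Agent.Known.OrthSim.Parity

/-!
Tools for the explicit similitudes: diagonal elements and their spinor norms.
-/

set_option autoImplicit false
set_option linter.unusedSectionVars false
set_option linter.style.haveILetI false

namespace Cfsg.Lib.OrthSim

open Matrix Cfsg.Lib.Classical Cfsg.Lib.Classical.Refl

universe u

variable {F : Type u} [Field F] {ι : Type} [Fintype ι] [DecidableEq ι]

/-- An invertible diagonal matrix. -/
def diagGL : (ι → Fˣ) →* GL ι F where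
  toFun d := ⟨diagonal fun i => (d i : F), diagonal fun i => ((d i)⁻¹ : Fˣ),
    by rw [diagonal_mul_diagonal]; simp, by rw [diagonal_mul_diagonal]; simp⟩
  map_one' := Units.ext (by simp)
  map_mul' d e := Units.ext (by simp [diagonal_mul_diagonal])

theorem diagGL_mulVec (d : ι → Fˣ) (x : ι → F) (i : ι) :
    ((diagGL d : GL ι F) : Matrix ι ι F).mulVec x i = d i * x i := mulVec_diagonal _ _ _

variable [Fintype F] [DecidableEq F] {Q : QuadraticForm F (ι → F)}

theorem exists_nonsq (h2 : (2 : F) ≠ 0) : ∃ c : Fˣ, ¬ IsSquare (c : F) := by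
  obtain ⟨c, hc⟩ := FiniteField.exists_nonsquare (F := F)
    (fun h => h2 (by haveI := ringChar.of_eq h; exact CharTwo.two_eq_zero))
  exact ⟨Units.mk0 c (fun h => hc (by rw [h]; exact IsSquare.zero)), hc⟩

theorem spin_refl_mul (h2 : (2 : F) ≠ 0) (hQ : (QuadraticMap.polarBilin Q).Nondegenerate)
    (hn : 2 ≤ Fintype.card ι) {v w : ι → F} (hv : Q v ≠ 0) (hw : Q w ≠ 0) (hns : ¬ IsSquare (Q v * Q w)) :
    spin Q (refl Q v hv * refl Q w hw) = -1 := by
  rw [map_mul]
  have hne : spin Q (refl Q v hv) ≠ spin Q (refl Q w hw) := fun h => hns ((spin_eq_iff Q h2 hQ hn hv hw).1 h)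
  rcases Int.units_eq_one_or (spin Q (refl Q v hv)) with a | a <;>
    rcases Int.units_eq_one_or (spin Q (refl Q w hw)) with b | b <;> simp_all

/-- The split torus of a hyperbolic pair: scaling by a non-square has spinor norm `-1`. -/
theorem spin_pair_torus (h2 : (2 : F) ≠ 0) (hQ : (QuadraticMap.polarBilin Q).Nondegenerate)
    (hn : 2 ≤ Fintype.card ι) {e f : ι → F} (he : Q e = 0) (hf : Q f = 0) (hef : QuadraticMap.polar (⇑Q) e f = 1)
    {c : F} (hc : ¬ IsSquare c) (g : Cfsg.isometryGroup F (⇑Q))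
    (hg : ∀ x, mat Q g *ᵥ x = x + ((c - 1) * QuadraticMap.polar (⇑Q) f x) • e +
      ((c⁻¹ - 1) * QuadraticMap.polar (⇑Q) e x) • f) :
    spin Q g = -1 := by
  have hc0 : c ≠ 0 := fun h => hc (by rw [h]; exact IsSquare.zero)
  have q : ∀ t : F, Q (e + t • f) = t := fun t => by
    rw [QuadraticMap.map_add (f := Q), QuadraticMap.map_smul, he, hf, QuadraticMap.polar_smul_right, hef]
    simp
  have h1 : Q (e + (1 : F) • f) ≠ 0 := by rw [q]; exact one_ne_zero
  have hcv : Q (e + c • f) ≠ 0 := by rw [q]; exact hc0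
  have key : g = refl Q _ h1 * refl Q _ hcv := by
    refine ext_mulVec Q fun x => ?_
    rw [hg]
    show _ = (Cfsg.reflectionMatrix (⇑Q) (e + (1 : F) • f) * Cfsg.reflectionMatrix (⇑Q) (e + c • f)) *ᵥ x
    rw [← mulVec_mulVec, mulVec_eq, mulVec_eq, q, q]
    have pe : ∀ t y, QuadraticMap.polar (⇑Q) (e + t • f) y =
        QuadraticMap.polar (⇑Q) e y + t * QuadraticMap.polar (⇑Q) f y := fun t y => by
      rw [QuadraticMap.polar_add_left, QuadraticMap.polar_smul_left, smul_eq_mul]
    have ee : QuadraticMap.polar (⇑Q) e e = 0 := by rw [QuadraticMap.polar_self, he, smul_zero]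
    have ff : QuadraticMap.polar (⇑Q) f f = 0 := by rw [QuadraticMap.polar_self, hf, smul_zero]
    simp only [pe, QuadraticMap.polar_sub_right, QuadraticMap.polar_add_right, QuadraticMap.polar_smul_right,
      smul_eq_mul, ee, ff, hef, QuadraticMap.polar_comm _ f e]
    match_scalars <;> field_simp <;> ring
  rw [key]
  refine spin_refl_mul h2 hQ hn h1 hcv ?_
  rwa [q, q, one_mul]

/-- Membership of `scal c * s` in `Ω` times scalars. -/
theorem scal_mul_mem_NN {k : ℕ} (S : Setup Q k) (hneg : Setup.NegMem Q) (c : Fˣ)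
    (s : Cfsg.isometryGroup F (⇑Q)) (hd : detHom Q s = 1) :
    scal Q c * toGO Q s ∈ NN Q ↔ spin Q s = 1 := by
  constructor
  · intro h
    refine (Int.units_eq_one_or _).resolve_right fun hs => S.not_mem_of_spin hneg hs ?_
    have h' : (scal Q c)⁻¹ * (scal Q c * toGO Q s) ∈ NN Q := mul_mem
      (inv_mem ((mem_NN Q).2 ⟨c, 1, one_mem _, by rw [map_one (toGO Q), mul_one]⟩)) h
    rwa [inv_mul_cancel_left] at h'
  · exact fun h => (mem_NN Q).2 ⟨c, s, (S.omega_iff' hd).2 h, rfl⟩

theorem detHom_diag {g : Cfsg.isometryGroup F (⇑Q)} {d : ι → Fˣ} (h : (g : GL ι F) = diagGL d) :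
    ((detHom Q g : Fˣ) : F) = ∏ i, (d i : F) := by
  show ((g : GL ι F) : Matrix ι ι F).det = _
  rw [h]; exact det_diagonal

end Cfsg.Lib.OrthSim
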