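import Cfsg.Agent.Known.OrthSim.Minus

/-!
Semisimilarities of the minus form inducing involutions are similitudes.
-/

set_option autoImplicit false
set_option linter.unusedSectionVars false
set_option linter.style.haveILetI false

namespace Cfsg.Lib.OrthSim

open Matrix Cfsg.Lib.Classical Cfsg.Lib.Classical.Refl

universe u

variable {F : Type u} [Field F] [Fintype F] [DecidableEq F]

/-- An element fixed by an involutory field automorphism is a square. -/
theorem isSquare_of_fixed (h2 : (2 : F) ≠ 0) {σ : F ≃+* F} (hσσ : ∀ x, σ (σ x) = x) (hσ : ∃ x, σ x ≠ x) {a : F}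
    (ha : σ a = a) : IsSquare a := by
  classical
  obtain ⟨x, hx⟩ := hσ
  set w := x - σ x with hw
  have hw0 : w ≠ 0 := sub_ne_zero.2 (Ne.symm hx)
  have hσw : σ w = -w := by rw [hw, map_sub, hσσ]; ring
  let K : Subfield F := σ.toRingHom.eqLocusField (RingHom.id F)
  have mem : ∀ z, z ∈ K ↔ σ z = z := fun z => Iff.rfl
  have hK2 : ringChar K ≠ 2 := fun h => h2 (by
    haveI := ringChar.of_eq h
    rw [← map_ofNat K.subtype 2, CharTwo.two_eq_zero (R := K), map_zero])
  let e : K := ⟨w * w, (mem _).2 (by rw [map_mul, hσw]; ring)⟩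
  let a' : K := ⟨a, (mem _).2 ha⟩
  have he : ¬ IsSquare e := by
    rintro ⟨⟨r, hr⟩, h⟩
    have h' : w * w = r * r := congrArg Subtype.val h
    have h0 : σ w = w := by
      rcases mul_self_eq_mul_self_iff.1 h' with h'' | h'' <;> rw [h'']
      · exact (mem r).1 hr
      · rw [map_neg, (mem r).1 hr]
    rw [hσw] at h0
    exact hw0 ((mul_eq_zero.1 (by linear_combination -h0 : (2 : F) * w = 0)).resolve_left h2)
  by_cases ha0 : IsSquare a'
  · obtain ⟨r, hr⟩ := ha0
    exact ⟨r, congrArg Subtype.val hr⟩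
  · have h1 : quadraticChar K (a' * e) = 1 := by
      rw [map_mul, quadraticChar_neg_one_iff_not_isSquare.2 ha0, quadraticChar_neg_one_iff_not_isSquare.2 he]
      norm_num
    have hne : a' * e ≠ 0 := mul_ne_zero (fun h => ha0 (by rw [h]; exact IsSquare.zero))
      (fun h => he (by rw [h]; exact IsSquare.zero))
    obtain ⟨r, hr⟩ := (quadraticChar_one_iff_isSquare hne).1 h1
    refine ⟨(r : F) / w, ?_⟩
    have h' : a * (w * w) = (r : F) * r := congrArg Subtype.val hr
    field_simp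
    linear_combination h'

variable {ι : Type} [Fintype ι] [DecidableEq ι] {Q : QuadraticForm F (ι → F)}

/-- The matrix with a field automorphism applied. -/
noncomputable abbrev glS (σ : F ≃+* F) (g : GL ι F) : GL ι F := Matrix.GeneralLinearGroup.map σ.toRingHom g

theorem coe_glS (σ : F ≃+* F) (g : GL ι F) : (glS σ g : Matrix ι ι F) = (g : Matrix ι ι F).map σ := rfl

theorem semi_mem {g : GL ι F} {σ : F ≃+* F} (hp : Cfsg.IsSemisimilarityPair (⇑Q) g σ)
    (s : Cfsg.isometryGroup F (⇑Q)) : g * glS σ (s : GL ι F) * g⁻¹ ∈ Cfsg.isometryGroup F (⇑Q) := by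
  obtain ⟨c, hc⟩ := hp
  refine (mem_iff Q).2 fun x => ?_
  set y : ι → F := fun i => σ.symm ((((g⁻¹ : GL ι F) : Matrix ι ι F) *ᵥ x) i) with hy
  have hσy : (fun i => σ (y i)) = ((g⁻¹ : GL ι F) : Matrix ι ι F) *ᵥ x := funext fun i => σ.apply_symm_apply _
  have e1 : ((g * glS σ (s : GL ι F) * g⁻¹ : GL ι F) : Matrix ι ι F) *ᵥ x =
      (g : Matrix ι ι F) *ᵥ fun i => σ ((((s : GL ι F) : Matrix ι ι F) *ᵥ y) i) := by
    rw [Units.val_mul, Units.val_mul, ← mulVec_mulVec, ← mulVec_mulVec, ← hσy, coe_glS]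
    congr 1
    exact funext fun i => (RingHom.map_mulVec σ.toRingHom _ y i).symm
  have e2 : x = (g : Matrix ι ι F) *ᵥ fun i => σ (y i) := by
    rw [hσy, mulVec_mulVec, ← Units.val_mul, mul_inv_cancel, Units.val_one, one_mulVec]
  conv_rhs => rw [e2]
  rw [e1, hc, hc, (mem_iff Q).1 s.2]

/-- Conjugation of isometries by a semisimilarity. -/
noncomputable def semiIso (g : GL ι F) (σ : F ≃+* F) (hp : Cfsg.IsSemisimilarityPair (⇑Q) g σ) :
    MulAut (Cfsg.isometryGroup F (⇑Q)) :=
  MulEquiv.ofBijective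
    (MonoidHom.mk' (fun s : Cfsg.isometryGroup F (⇑Q) => (⟨g * glS σ (s : GL ι F) * g⁻¹, semi_mem hp s⟩ : Cfsg.isometryGroup F (⇑Q)))
      fun s t => Subtype.ext (by simp [glS, mul_assoc]))
    (Finite.injective_iff_bijective.1 fun s t h => Subtype.ext (Units.ext (Matrix.map_injective σ.injective (by
      have h1 : g * glS σ (s : GL ι F) * g⁻¹ = g * glS σ (t : GL ι F) * g⁻¹ := congrArg Subtype.val h
      exact congrArg Units.val (mul_left_cancel (mul_right_cancel h1))))))

theorem semiIso_omega {g : GL ι F} {σ : F ≃+* F} (hp : Cfsg.IsSemisimilarityPair (⇑Q) g σ)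
    {s : Cfsg.isometryGroup F (⇑Q)} : semiIso g σ hp s ∈ Cfsg.Omega F (⇑Q) ↔ s ∈ Cfsg.Omega F (⇑Q) := by
  have h : (Cfsg.Omega F (⇑Q)).map (semiIso g σ hp).toMonoidHom = Cfsg.Omega F (⇑Q) :=
    Subgroup.characteristic_iff_map_eq.1 inferInstance (semiIso g σ hp)
  conv_lhs => rw [← h]
  exact Subgroup.mem_map_equiv.trans (by rw [MulEquiv.symm_apply_apply])

/-- Conjugation of `Ω` by a semisimilarity. -/
noncomputable def semiOm (g : GL ι F) (σ : F ≃+* F) (hp : Cfsg.IsSemisimilarityPair (⇑Q) g σ) :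
    MulAut (Cfsg.Omega F (⇑Q)) where
  toFun s := ⟨semiIso g σ hp s.1, (semiIso_omega hp).2 s.2⟩
  invFun s := ⟨(semiIso g σ hp).symm s.1, (semiIso_omega hp).1 (by rw [MulEquiv.apply_symm_apply]; exact s.2)⟩
  left_inv s := Subtype.ext ((semiIso g σ hp).symm_apply_apply s.1)
  right_inv s := Subtype.ext ((semiIso g σ hp).apply_symm_apply s.1)
  map_mul' s t := Subtype.ext (map_mul (semiIso g σ hp) s.1 t.1)

theorem semiOm_coe (g : GL ι F) (σ : F ≃+* F) (hp : Cfsg.IsSemisimilarityPair (⇑Q) g σ) (s : Cfsg.Omega F (⇑Q)) :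
    ((semiOm g σ hp s).1 : GL ι F) = g * glS σ (s.1 : GL ι F) * g⁻¹ := rfl

/-- Conjugation of `PΩ` by a semisimilarity. -/
noncomputable def semiPO (g : GL ι F) (σ : F ≃+* F) (hp : Cfsg.IsSemisimilarityPair (⇑Q) g σ) :
    MulAut (Cfsg.POmega F (⇑Q)) :=
  QuotientGroup.congr _ _ (semiOm g σ hp) (Subgroup.characteristic_iff_map_eq.1 inferInstance _)

theorem induced_semi_iff (g : GL ι F) (σ : F ≃+* F) (hp : Cfsg.IsSemisimilarityPair (⇑Q) g σ)
    (β : MulAut (Cfsg.POmega F (⇑Q))) :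
    Cfsg.IsInducedBySemilinearPOmega (⇑Q) g σ β ↔ β = semiPO g σ hp := by
  constructor
  · intro h
    exact MulEquiv.ext fun x => QuotientGroup.induction_on x fun s => h s (semiOm g σ hp s) (by simp [semiOm, semiIso, glS])
  · rintro rfl s s' h
    exact congrArg QuotientGroup.mk (Subtype.ext (Subtype.ext (Units.ext (by rw [h]; simp [semiOm, semiIso, glS]))))

theorem pair_comp {g h : GL ι F} {σ τ : F ≃+* F} (hp : Cfsg.IsSemisimilarityPair (⇑Q) g σ)
    (hq : Cfsg.IsSemisimilarityPair (⇑Q) h τ) : Cfsg.IsSemisimilarityPair (⇑Q) (g * glS σ h) (τ.trans σ) := by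
  obtain ⟨c, hc⟩ := hp
  obtain ⟨d, hd⟩ := hq
  refine ⟨c * Units.map σ.toRingHom.toMonoidHom d, fun v => ?_⟩
  have e : ((g * glS σ h : GL ι F) : Matrix ι ι F) *ᵥ (fun i => σ.toRingHom (τ (v i))) =
      (g : Matrix ι ι F) *ᵥ fun i => σ (((h : Matrix ι ι F) *ᵥ fun j => τ (v j)) i) := by
    rw [Units.val_mul, ← mulVec_mulVec, coe_glS]
    congr 1
    exact funext fun i => (RingHom.map_mulVec σ.toRingHom _ _ i).symm
  refine (congrArg Q e).trans ?_
  rw [hc, hd, map_mul, Units.val_mul, mul_assoc]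
  rfl

theorem semiPO_mul {g h : GL ι F} {σ τ : F ≃+* F} (hp : Cfsg.IsSemisimilarityPair (⇑Q) g σ)
    (hq : Cfsg.IsSemisimilarityPair (⇑Q) h τ) :
    semiPO g σ hp * semiPO h τ hq = semiPO (g * glS σ h) (τ.trans σ) (pair_comp hp hq) := by
  refine MulEquiv.ext fun x => QuotientGroup.induction_on x fun s =>
    congrArg QuotientGroup.mk (Subtype.ext (Subtype.ext ?_))
  have e : glS (τ.trans σ) (s.1 : GL ι F) = glS σ (glS τ (s.1 : GL ι F)) := Units.ext rfl
  simp only [MonoidHom.coe_coe, semiOm_coe]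
  rw [e]
  simp [glS, mul_assoc, _root_.mul_inv_rev]

theorem exists_pair_of_mem_gamma {β : MulAut (Cfsg.POmega F (⇑Q))} (h : β ∈ Cfsg.gammaPOmega F (⇑Q)) :
    ∃ g σ, ∃ hp : Cfsg.IsSemisimilarityPair (⇑Q) g σ, β = semiPO g σ hp := by
  have hone : ∃ g σ, ∃ hp : Cfsg.IsSemisimilarityPair (⇑Q) g σ, (1 : MulAut (Cfsg.POmega F (⇑Q))) = semiPO g σ hp := by
    have hp : Cfsg.IsSemisimilarityPair (⇑Q) (1 : GL ι F) (RingEquiv.refl F) := ⟨1, fun v => by simp⟩
    refine ⟨1, _, hp, (induced_semi_iff _ _ hp _).1 fun s s' h => congrArg QuotientGroup.mk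
      (Subtype.ext (Subtype.ext (Units.ext ?_)))⟩
    rw [h]; simp
  induction h using Subgroup.closure_induction with
  | mem x hx =>
    obtain ⟨g, σ, hp, hi⟩ := hx
    exact ⟨g, σ, hp, (induced_semi_iff g σ hp x).1 hi⟩
  | one => exact hone
  | mul x y _ _ hx hy =>
    obtain ⟨g, σ, hp, rfl⟩ := hx
    obtain ⟨g', τ, hq, rfl⟩ := hy
    exact ⟨_, _, _, semiPO_mul hp hq⟩
  | inv x _ hx =>
    haveI : Finite (MulAut (Cfsg.POmega F (⇑Q))) := Finite.of_injective _ DFunLike.coe_injective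
    have hpow : ∀ n : ℕ, ∃ g σ, ∃ hp : Cfsg.IsSemisimilarityPair (⇑Q) g σ, x ^ n = semiPO g σ hp := fun n => by
      induction n with
      | zero => rw [pow_zero]; exact hone
      | succ n ih =>
        obtain ⟨g, σ, hp, e⟩ := ih
        obtain ⟨g', τ, hq, e'⟩ := hx
        exact ⟨_, _, _, by rw [pow_succ, e, e']; exact semiPO_mul hp hq⟩
    have e : x⁻¹ = x ^ (orderOf x - 1) := inv_eq_of_mul_eq_one_left (by
      rw [← pow_succ, Nat.sub_add_cancel (orderOf_pos x)]; exact pow_orderOf_eq_one x)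
    rw [e]; exact hpow _

theorem semi_ker (hQ : (QuadraticMap.polarBilin Q).Nondegenerate) (hn : 7 ≤ Fintype.card ι) {g : GL ι F}
    {σ : F ≃+* F} (hp : Cfsg.IsSemisimilarityPair (⇑Q) g σ) (h : semiPO g σ hp = 1)
    (s : Cfsg.Omega F (⇑Q)) : g * glS σ (s.1 : GL ι F) * g⁻¹ = (s.1 : GL ι F) := by
  have hz : ∀ t : Cfsg.Omega F (⇑Q), t⁻¹ * semiOm g σ hp t ∈ Subgroup.center (Cfsg.Omega F (⇑Q)) := fun t => by
    have h1 : semiPO g σ hp (QuotientGroup.mk t) = QuotientGroup.mk t := by rw [h]; rfl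
    exact QuotientGroup.eq.1 h1.symm
  let χ : Cfsg.Omega F (⇑Q) →* Subgroup.center (Cfsg.Omega F (⇑Q)) :=
    MonoidHom.mk' (fun t => ⟨_, hz t⟩) fun t v => Subtype.ext (by
      show (t * v)⁻¹ * semiOm g σ hp (t * v) = t⁻¹ * semiOm g σ hp t * (v⁻¹ * semiOm g σ hp v)
      rw [map_mul, _root_.mul_inv_rev, mul_assoc, ← mul_assoc t⁻¹, ← mul_assoc v⁻¹,
        Subgroup.mem_center_iff.1 (hz t) v⁻¹, mul_assoc])
  have hker : χ.ker = ⊤ := by
    rw [eq_top_iff, ← perfect Q hQ hn, commutator_def, Subgroup.commutator_le]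
    intro a _ b _
    rw [MonoidHom.mem_ker, map_commutatorElement]
    exact commutatorElement_eq_one_iff_mul_comm.2 (Subtype.ext (Subgroup.mem_center_iff.1 (χ a).2 _).symm)
  have h0 : χ s = 1 := MonoidHom.mem_ker.1 (by rw [hker]; exact Subgroup.mem_top s)
  have h1 : s⁻¹ * semiOm g σ hp s = 1 := congrArg Subtype.val h0
  exact congrArg (fun t : Cfsg.Omega F (⇑Q) => (t.1 : GL ι F)) (inv_mul_eq_one.1 h1).symm

/-! ### The minus form -/

section Minus

variable {m : ℕ} {a b : F} (h2 : (2 : F) ≠ 0) (hm : 3 ≤ m) (hab : Aniso a b)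
include h2 hm hab

local notation "QM" => minusForm m F a b
local notation "ιM" => ((Fin m ⊕ Fin m) ⊕ Fin 2)

theorem trace_rigid {g : GL ιM F} {σ : F ≃+* F} (hp : Cfsg.IsSemisimilarityPair (⇑QM) g σ)
    (h : semiPO g σ hp = 1) (x : F) : σ x = x := by
  classical
  have hQ := minusForm_nondegenerate h2 m (aniso_ne h2 hab)
  have hn : 7 ≤ Fintype.card ιM := by simp; omega
  let i₀ : Fin m := ⟨0, by omega⟩
  let i₁ : Fin m := ⟨1, by omega⟩
  have hi : i₀ ≠ i₁ := by simp [i₀, i₁]
  have hspin1 : ∀ i (c : Fˣ), ¬ IsSquare (c : F) → spin QM (torusM (Pi.mulSingle i c)) = -1 := by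
    intro i c hc
    refine spin_pair_torus h2 hQ (by simp)
      (e := Pi.single (Sum.inl (Sum.inl i)) 1) (f := Pi.single (Sum.inl (Sum.inr i)) 1) (c := (c : F)) ?_ ?_ ?_ hc _
      fun z => ?_
    · simp [minusForm_coe, Cfsg.quadFormMinus]
    · simp [minusForm_coe, Cfsg.quadFormMinus]
    · simp [QuadraticMap.polar, minusForm_coe, Cfsg.quadFormMinus, Pi.single_apply]
    · have pe : QuadraticMap.polar (⇑QM) (Pi.single (Sum.inl (Sum.inl i)) 1) z = z (Sum.inl (Sum.inr i)) := by
        simp [QuadraticMap.polar, minusForm_coe, Cfsg.quadFormMinus, Pi.single_apply, add_mul, Finset.sum_add_distrib]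
      have pf : QuadraticMap.polar (⇑QM) (Pi.single (Sum.inl (Sum.inr i)) 1) z = z (Sum.inl (Sum.inl i)) := by
        simp [QuadraticMap.polar, minusForm_coe, Cfsg.quadFormMinus, Pi.single_apply, mul_add, Finset.sum_add_distrib]
      rw [pe, pf]
      funext j
      rw [torusM_mulVec]
      rcases j with (j | j) | j
      · rcases eq_or_ne j i with rfl | hj <;> simp [*] <;> ring
      · rcases eq_or_ne j i with rfl | hj <;> simp [*] <;> ring
      · simp
  have htr : ∀ t : Fˣ, σ ((t : F) + (t : F)⁻¹) = (t : F) + (t : F)⁻¹ := by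
    intro t
    have heq : spin QM (torusM (Pi.mulSingle i₀ t)) = spin QM (torusM (Pi.mulSingle i₁ t)) := by
      by_cases ht : IsSquare (t : F)
      · obtain ⟨r, hr⟩ := ht
        have hr0 : r ≠ 0 := fun h => t.ne_zero (by rw [hr, h, mul_zero])
        rw [show t = Units.mk0 r hr0 * Units.mk0 r hr0 from Units.ext hr, Pi.mulSingle_mul, Pi.mulSingle_mul,
          map_mul, map_mul, map_mul, map_mul, Int.units_mul_self, Int.units_mul_self]
      · rw [hspin1 _ t ht, hspin1 _ t ht]
    have hmem : torusM (Pi.mulSingle i₀ t * Pi.mulSingle i₁ t) ∈ Cfsg.Omega F (⇑QM) := by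
      rw [mem_omega_iff QM h2 hQ (by omega)]
      refine ⟨detHom_torusM _, ?_⟩
      rw [map_mul, map_mul, heq, Int.units_mul_self]
    have hk := semi_ker hQ hn hp h ⟨_, hmem⟩
    have h1 := congrArg (fun z : GL ιM F => (z : Matrix ιM ιM F).trace) hk
    simp only [Units.val_mul, Matrix.trace_units_conj] at h1
    rw [coe_glS] at h1
    replace h1 := (AddMonoidHom.map_trace σ.toRingHom.toAddMonoidHom _).trans h1
    have hTr : ((torusM (F := F) (a := a) (b := b) (Pi.mulSingle i₀ t * Pi.mulSingle i₁ t) : GL ιM F) :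
        Matrix ιM ιM F).trace = 2 * ((t : F) + (t : F)⁻¹) + (2 * m - 2) := by
      show Matrix.trace (diagonal _) = _
      have e : ∀ l : Fin m, (((Pi.mulSingle i₀ t * Pi.mulSingle i₁ t : Fin m → Fˣ) l : Fˣ) : F) =
          1 + (if l = i₀ then (t : F) - 1 else 0) + (if l = i₁ then (t : F) - 1 else 0) := fun l => by
        rcases eq_or_ne l i₀ with rfl | h0
        · simp [hi]
        · rcases eq_or_ne l i₁ with rfl | h1 <;> simp [*, hi.symm]
      have e' : ∀ l : Fin m, ((((Pi.mulSingle i₀ t * Pi.mulSingle i₁ t : Fin m → Fˣ) l)⁻¹ : Fˣ) : F) =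
          1 + (if l = i₀ then (t : F)⁻¹ - 1 else 0) + (if l = i₁ then (t : F)⁻¹ - 1 else 0) := fun l => by
        rcases eq_or_ne l i₀ with rfl | h0
        · simp [hi]
        · rcases eq_or_ne l i₁ with rfl | h1 <;> simp [*, hi.symm]
      rw [trace_diagonal, Fintype.sum_sum_type, Fintype.sum_sum_type]
      simp only [Sum.elim_inl, Sum.elim_inr, Pi.one_apply, Units.val_one, Pi.inv_apply, e, e', Finset.sum_add_distrib,
        Finset.sum_const, Finset.card_univ, Fintype.card_fin, nsmul_eq_mul, Finset.sum_ite_eq', Finset.mem_univ,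
        if_true]
      ring
    rw [hTr] at h1
    change σ _ = _ at h1
    rw [map_add, map_mul, map_sub, map_mul, map_ofNat, map_natCast, add_left_inj] at h1
    exact mul_left_cancel₀ h2 h1
  have hdich : ∀ y : F, y ≠ 0 → σ y = y ∨ σ y * y = 1 := fun y hy => by
    have := htr (Units.mk0 y hy)
    rw [Units.val_mk0, map_add, map_inv₀] at this
    have hσy : σ y ≠ 0 := (map_ne_zero σ).2 hy
    field_simp at this
    rcases mul_eq_zero.1 (by linear_combination this : (σ y - y) * (σ y * y - 1) = 0) with e | e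
    · exact Or.inl (sub_eq_zero.1 e)
    · exact Or.inr (sub_eq_zero.1 e)
  by_contra hx
  have hx0 : x ≠ 0 := fun e => hx (by rw [e, map_zero])
  have hx1 : σ x * x = 1 := (hdich x hx0).resolve_left hx
  have hfix : ∀ y : F, y ≠ 0 → σ y = y → y * y = 1 := fun y hy hσy => by
    rcases hdich (x * y) (mul_ne_zero hx0 hy) with e | e
    · rw [map_mul, hσy] at e
      exact absurd (mul_right_cancel₀ hy e) hx
    · rw [map_mul, hσy] at e
      linear_combination e - y * y * hx1
  have h3 : (3 : F) = 0 := by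
    have := hfix 2 h2 (map_ofNat σ 2)
    linear_combination this
  have hx2 : x + 1 ≠ 0 := fun e => hx (by
    rw [eq_neg_of_add_eq_zero_left e, map_neg, map_one])
  rcases hdich (x + 1) hx2 with e | e <;> rw [map_add, map_one] at e
  · exact hx (by linear_combination e)
  · have hsq : (x - 1) * (x - 1) = 0 := by linear_combination x * e - (x + 1) * hx1 - x * h3
    refine hx ?_
    rw [sub_eq_zero.1 ((mul_eq_zero.1 hsq).elim id id), map_one]

theorem linear_of_involution {g : GL ιM F} {σ : F ≃+* F} (hp : Cfsg.IsSemisimilarityPair (⇑QM) g σ)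
    (hinv : semiPO g σ hp * semiPO g σ hp = 1) (x : F) : σ x = x := by
  classical
  have hQ := minusForm_nondegenerate h2 m (aniso_ne h2 hab)
  have hn : 7 ≤ Fintype.card ιM := by simp; omega
  rw [semiPO_mul] at hinv
  have hσσ : ∀ y, σ (σ y) = y := trace_rigid h2 hm hab _ hinv
  by_contra hx
  obtain ⟨c', hc'⟩ := pair_comp hp hp
  let G : GO QM := ⟨g * glS σ g, c', fun v => by
    have := hc' v
    simp only [RingEquiv.trans_apply, hσσ] at this
    exact this⟩
  have hG : conjPO QM G = 1 := by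
    refine ((induced_iff QM G 1).1 ?_).symm
    rw [← hinv]
    intro s s' e
    refine congrArg QuotientGroup.mk (Subtype.ext (Subtype.ext (Units.ext ?_)))
    rw [e]
    have em : ((s.1 : GL ιM F) : Matrix ιM ιM F).map (σ.trans σ) = (s.1 : GL ιM F) := by ext i j; simp [hσσ]
    have em' : (glS (σ.trans σ) (s.1 : GL ιM F)) = (s.1 : GL ιM F) := Units.ext em
    simp [semiOm, semiIso, G, em', mul_assoc]
  rw [← MonoidHom.mem_ker, conjPO_ker QM hQ hn] at hG
  obtain ⟨k, hk⟩ := hG
  obtain ⟨c, hc⟩ := hp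
  set gM := (g : Matrix ιM ιM F) with hgM
  have hgg : gM * gM.map σ = (k : F) • 1 := by
    have := congrArg (gm QM) hk
    rw [gm_scal] at this
    exact this.symm
  -- the multiplier
  have hcc : (c : F) * σ c = (k : F) * k := by
    obtain ⟨v, hv⟩ := exists_anisotropic QM hQ hn
    have h1 := hc (gM *ᵥ fun i => σ (v i))
    rw [hc v, hv, map_one, mul_one] at h1
    have e : (fun i => σ ((gM *ᵥ fun j => σ (v j)) i)) = gM.map σ *ᵥ v := funext fun i => by
      refine (RingHom.map_mulVec σ.toRingHom gM (fun j => σ (v j)) i).trans ?_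
      show (gM.map σ *ᵥ fun j => σ (σ (v j))) i = _
      simp only [hσσ]
    rw [e, mulVec_mulVec, hgg, smul_mulVec, one_mulVec, QuadraticMap.map_smul, hv, smul_eq_mul, mul_one] at h1
    exact h1.symm
  -- the determinant of the form
  let B : LinearMap.BilinForm F (ιM → F) := QuadraticMap.polarBilin QM
  set G₀ := LinearMap.BilinForm.toMatrix' B with hG₀
  have hB : gM.transpose * G₀ * gM = (c : F) • G₀.map σ := by
    ext i j
    have e1 : (LinearMap.BilinForm.toMatrix' (B.comp (Matrix.toLin' gM) (Matrix.toLin' gM))) i j =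
        (c : F) * σ (G₀ i j) := by
      rw [LinearMap.BilinForm.toMatrix'_apply]
      show QuadraticMap.polar (⇑QM) (Matrix.toLin' gM (Pi.single i 1)) (Matrix.toLin' gM (Pi.single j 1)) =
        (c : F) * σ (QuadraticMap.polar (⇑QM) (Pi.single i 1) (Pi.single j 1))
      have es : ∀ l, (Pi.single l 1 : ιM → F) = fun t => σ ((Pi.single l 1 : ιM → F) t) := fun l => by
        funext t; simp [Pi.single_apply, apply_ite σ]
      have ea : (Pi.single i 1 : ιM → F) + Pi.single j 1 =
          fun t => σ ((Pi.single i 1 + Pi.single j 1 : ιM → F) t) := by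
        funext t; simp [Pi.single_apply, apply_ite σ]
      rw [QuadraticMap.polar, QuadraticMap.polar, ← map_add (Matrix.toLin' gM), Matrix.toLin'_apply,
        Matrix.toLin'_apply, Matrix.toLin'_apply, map_sub, map_sub]
      have h1' := hc (Pi.single i 1)
      have h2'' := hc (Pi.single j 1)
      have h3' := hc (Pi.single i 1 + Pi.single j 1)
      rw [← es i] at h1'
      rw [← es j] at h2''
      rw [← ea] at h3'
      rw [h1', h2'', h3']; ring
    rw [LinearMap.BilinForm.toMatrix'_comp, LinearMap.toMatrix'_toLin'] at e1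
    simpa [Matrix.smul_apply, Matrix.map_apply] using e1
  have h1 := congrArg Matrix.det hB
  rw [det_mul, det_mul, det_transpose, det_smul, ← RingEquiv.coe_toRingHom, ← RingHom.mapMatrix_apply,
    ← RingHom.map_det] at h1
  have h2' := congrArg Matrix.det hgg
  rw [det_mul, det_smul, det_one, mul_one, ← RingEquiv.coe_toRingHom, ← RingHom.mapMatrix_apply, ← RingHom.map_det] at h2'
  have hj : Fintype.card ιM = 2 * (m + 1) := by simp; omega
  rw [hj] at h1 h2'
  set δ := G₀.det
  set D := gM.det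
  have hδ0 : δ ≠ 0 := LinearMap.BilinForm.nondegenerate_toBilin'_iff_det_ne_zero.1
    (by rw [Matrix.toBilin'_toMatrix']; exact hQ)
  have hcp : (c : F) ^ (m + 1) ≠ 0 := pow_ne_zero _ c.ne_zero
  set u := D / (c : F) ^ (m + 1) with hu
  have hu1 : u * σ u = 1 := by
    rw [hu, map_div₀, map_pow, div_mul_div_comm, ← mul_pow, hcc]
    change D * σ D = _ at h2'
    rw [h2', pow_mul, ← pow_two, div_self]
    exact pow_ne_zero _ (pow_ne_zero _ k.ne_zero)
  have hu2 : u * u * δ = σ δ := by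
    change D * δ * D = _ * σ δ at h1
    rw [two_mul, pow_add] at h1
    rw [hu, div_mul_div_comm, div_mul_eq_mul_div, div_eq_iff (mul_ne_zero hcp hcp)]
    linear_combination h1
  obtain ⟨y, hy0, hy⟩ : ∃ y : F, y ≠ 0 ∧ u * σ y = y := by
    by_cases h1' : (1 : F) + u = 0
    · refine ⟨x - σ x, sub_ne_zero.2 (Ne.symm hx), ?_⟩
      rw [eq_neg_of_add_eq_zero_right h1', map_sub, hσσ]; ring
    · exact ⟨1 + u, h1', by rw [map_add, map_one]; linear_combination hu1⟩
  have hfix : σ (δ * (y * y)) = δ * (y * y) := by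
    rw [map_mul, map_mul, ← hu2]
    linear_combination δ * (u * σ y + y) * hy
  have hsq : IsSquare δ := by
    obtain ⟨r, hr⟩ := isSquare_of_fixed h2 hσσ ⟨x, hx⟩ hfix
    refine ⟨r / y, ?_⟩
    field_simp
    linear_combination hr
  -- the determinant of the standard form
  have hdet : G₀ = fromBlocks (fromBlocks 0 1 1 0) 0 0 !![2, a; a, 2 * b] := by
    ext i j
    rw [hG₀, LinearMap.BilinForm.toMatrix'_apply]
    show QuadraticMap.polar (⇑QM) _ _ = _
    rcases i with (i | i) | i <;> rcases j with (j | j) | j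
    all_goals try fin_cases i
    all_goals try fin_cases j
    all_goals simp [QuadraticMap.polar, minusForm_coe, Cfsg.quadFormMinus, Pi.single_apply, Matrix.one_apply,
      mul_add, add_mul, Finset.sum_add_distrib, eq_comm]
    all_goals ring
  set X : Matrix (Fin m ⊕ Fin m) (Fin m ⊕ Fin m) F := fromBlocks 0 1 1 0 with hX
  have hXX : X.det * X.det = 1 := by
    rw [← det_mul, hX, fromBlocks_multiply]
    simp
  have hδ : δ = X.det * (4 * b - a ^ 2) := by
    show G₀.det = _
    rw [hdet, det_fromBlocks_zero₂₁, det_fin_two]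
    simp
    left; ring
  have hsqX : IsSquare X.det := by
    rcases mul_self_eq_one_iff.1 hXX with e | e <;> rw [e]
    · exact IsSquare.one
    · exact isSquare_of_fixed h2 hσσ ⟨x, hx⟩ (by rw [map_neg, map_one])
  refine aniso_disc h2 hab ?_
  rw [show a ^ 2 - 4 * b = -1 * X.det * δ by rw [hδ]; linear_combination (4 * b - a ^ 2) * hXX]
  exact ((isSquare_of_fixed h2 hσσ ⟨x, hx⟩ (by rw [map_neg, map_one])).mul hsqX).mul hsq

/-- Involutory graph automorphisms of the minus type come from similitudes of sign `-1`. -/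
theorem graph_elim_minus (γ : MulAut (Cfsg.POmega F (⇑QM))) (hγ : γ ∈ Cfsg.gammaPOmega F (⇑QM))
    (hnot : γ ∉ inndiagM a b (⇑QM)) (hγγ : γ * γ = 1) :
    ∃ z, (setupM h2 hm hab).e z = -1 ∧ γ = conjPO QM z := by
  obtain ⟨g, σ, hp, rfl⟩ := exists_pair_of_mem_gamma hγ
  have hσ := linear_of_involution h2 hm hab hp hγγ
  have hσ' : σ = RingEquiv.refl F := RingEquiv.ext hσ
  subst hσ'
  have hg : g ∈ GO QM := by
    obtain ⟨c, hc⟩ := hp
    exact ⟨c, fun v => hc v⟩
  have e : semiPO g (RingEquiv.refl F) hp = conjPO QM ⟨g, hg⟩ :=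
    (induced_iff QM ⟨g, hg⟩ _).1 ((induced_semi_iff g (RingEquiv.refl F) hp _).2 rfl)
  refine ⟨⟨g, hg⟩, (eps_pm QM _ _ _ _).resolve_left fun he => hnot ?_, e⟩
  rw [e, inndiagMinus_eq h2 hm hab]
  exact ⟨⟨g, hg⟩, he, rfl⟩

end Minus

end Cfsg.Lib.OrthSim
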