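import Cfsg.Agent.Known.OrthSim.Common

/-!
Similitudes of sign `-1` whose square is scalar.
-/

set_option autoImplicit false
set_option linter.unusedSectionVars false
set_option linter.style.haveILetI false

namespace Cfsg.Lib.OrthSim

open Matrix Cfsg.Lib.Classical Cfsg.Lib.Classical.Refl

universe u

section Matrices

variable {F : Type u} [Field F] {ι : Type} [Fintype ι] [DecidableEq ι]

theorem charpoly_mul_neg {M : Matrix ι ι F} {c : F} (hM : M * M = c • 1) :
    M.charpoly * (-M).charpoly = (Polynomial.X ^ 2 - Polynomial.C c) ^ Fintype.card ι := by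
  rw [Matrix.charpoly, Matrix.charpoly, ← Matrix.det_mul]
  have e : M.charmatrix * (-M).charmatrix =
      (Polynomial.X ^ 2 - Polynomial.C c) • (1 : Matrix ι ι (Polynomial F)) := by
    unfold Matrix.charmatrix
    rw [map_neg (Polynomial.C.mapMatrix : Matrix ι ι F →+* _), sub_neg_eq_add, sub_mul, mul_add, mul_add,
      ← map_mul (Polynomial.C.mapMatrix : Matrix ι ι F →+* _), hM,
      (Matrix.scalar_commute (Polynomial.X : Polynomial F) (fun _ => Commute.all _ _) _).eq]
    ext i j : 1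
    by_cases h : i = j <;> simp [h, Matrix.scalar_apply, pow_two] <;> ring
  rw [e, det_smul, det_one, mul_one]

/-- A matrix with irreducible quadratic equation has determinant a power of its norm. -/
theorem det_of_irred {M : Matrix ι ι F} {c : F} (hM : M * M = c • 1) (hc : ¬ IsSquare c) {k : ℕ}
    (hk : Fintype.card ι = 2 * k) : M.det = (-c) ^ k := by
  have hp : Prime (Polynomial.X ^ 2 - Polynomial.C c) :=
    ((X_pow_sub_C_irreducible_iff_of_prime Nat.prime_two).2 fun b hb => hc ⟨b, by rw [← hb, pow_two]⟩).prime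
  obtain ⟨j, -, hj⟩ := (dvd_prime_pow hp _).1 (Dvd.intro _ (charpoly_mul_neg hM))
  have hmon : (Polynomial.X ^ 2 - Polynomial.C c).Monic := Polynomial.monic_X_pow_sub_C c two_ne_zero
  have e := Polynomial.eq_of_monic_of_associated M.charpoly_monic (hmon.pow j) hj
  have hjk : j = k := by
    have := congrArg Polynomial.natDegree e
    rw [Matrix.charpoly_natDegree_eq_dim, Polynomial.natDegree_pow, Polynomial.natDegree_X_pow_sub_C] at this
    omega
  rw [Matrix.det_eq_sign_charpoly_coeff, e, hjk, hk, pow_mul, neg_one_sq, one_pow, one_mul,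
    Polynomial.coeff_zero_eq_eval_zero]
  simp

/-- A skew map with scalar square has determinant a power of minus that scalar. -/
theorem det_of_skew {M G : Matrix ι ι F} {c : F} (hM : M * M = c • 1) (hG : IsUnit G.det)
    (hskew : M.transpose * G = -(G * M)) {k : ℕ} (hk : Fintype.card ι = 2 * k) : M.det = (-c) ^ k := by
  have hG' : IsUnit G := (Matrix.isUnit_iff_isUnit_det G).2 hG
  have e : (-M).charpoly = M.charpoly := by
    rw [← Matrix.charpoly_transpose M, ← Matrix.charpoly_units_conj hG'.unit (-M)]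
    congr 1
    rw [IsUnit.unit_spec, Matrix.mul_neg, ← hskew, mul_assoc,
      Matrix.mul_nonsing_inv G hG, mul_one]
  have h := charpoly_mul_neg hM
  rw [e, hk, mul_comm 2 k, pow_mul, ← pow_two] at h
  have hmon : (Polynomial.X ^ 2 - Polynomial.C c).Monic := Polynomial.monic_X_pow_sub_C c two_ne_zero
  have h' : M.charpoly = (Polynomial.X ^ 2 - Polynomial.C c) ^ k := by
    rcases sq_eq_sq_iff_eq_or_eq_neg.1 h with h' | h'
    · exact h'
    · have hl := congrArg Polynomial.leadingCoeff h'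
      rw [M.charpoly_monic.leadingCoeff, Polynomial.leadingCoeff_neg, (hmon.pow k).leadingCoeff] at hl
      rw [h']
      have h0 : ((-1 : Polynomial F)) = 1 := by rw [← map_one Polynomial.C, ← map_neg, ← hl]
      rw [← neg_one_mul, h0, one_mul]
  rw [Matrix.det_eq_sign_charpoly_coeff, h', hk, pow_mul, neg_one_sq, one_pow, one_mul,
    Polynomial.coeff_zero_eq_eval_zero]
  simp

end Matrices

variable {F : Type u} [Field F] [Fintype F] [DecidableEq F] {ι : Type} [Fintype ι] [DecidableEq ι]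
variable {Q : QuadraticForm F (ι → F)} {k : ℕ}

theorem polar_gm (g : GO Q) (x y : ι → F) :
    QuadraticMap.polar (⇑Q) (gm Q g *ᵥ x) (gm Q g *ᵥ y) = (mu Q g : F) * QuadraticMap.polar (⇑Q) x y := by
  rw [QuadraticMap.polar, QuadraticMap.polar, ← mulVec_add, mu_spec, mu_spec, mu_spec]; ring

namespace Setup

variable (S : Setup Q k) {g : GO Q} {c : Fˣ}
include S

/-- For sign `-1` and scalar square the multiplier is that scalar. -/
theorem mu_eq_of_sq (he : S.e g = -1) (hg : g * g = scal Q c) : mu Q g = c := by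
  have h := congrArg (mu Q) hg
  rw [mu_mul Q S.hQ S.hn, mu_scal Q S.hQ S.hn] at h
  rcases mul_self_eq_mul_self_iff.1 (congrArg Units.val h : (mu Q g : F) * mu Q g = (c : F) * c) with h' | h'
  · exact Units.ext h'
  exfalso
  let B : LinearMap.BilinForm F (ι → F) := QuadraticMap.polarBilin Q
  have hM : gm Q g * gm Q g = (c : F) • 1 := by rw [← gm_mul, hg, gm_scal]
  have hskew : ∀ x y, QuadraticMap.polar (⇑Q) (gm Q g *ᵥ x) y = -QuadraticMap.polar (⇑Q) x (gm Q g *ᵥ y) := by
    intro x y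
    have h1 := polar_gm g x (gm Q g *ᵥ y)
    rw [mulVec_mulVec, hM, smul_mulVec, one_mulVec, QuadraticMap.polar_smul_right, smul_eq_mul, h', neg_mul,
      ← mul_neg] at h1
    exact mul_left_cancel₀ c.ne_zero h1
  have hG : IsUnit (LinearMap.BilinForm.toMatrix' B).det :=
    isUnit_iff_ne_zero.2 (LinearMap.BilinForm.nondegenerate_toBilin'_iff_det_ne_zero.1
      (by rw [Matrix.toBilin'_toMatrix']; exact S.hQ))
  have hB : B.compLeft (Matrix.toLin' (gm Q g)) = -B.compRight (Matrix.toLin' (gm Q g)) := by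
    refine LinearMap.ext₂ fun x y => ?_
    show QuadraticMap.polar (⇑Q) (Matrix.toLin' (gm Q g) x) y = -QuadraticMap.polar (⇑Q) x (Matrix.toLin' (gm Q g) y)
    rw [Matrix.toLin'_apply, Matrix.toLin'_apply, hskew]
  have hT := congrArg LinearMap.BilinForm.toMatrix' hB
  rw [_root_.map_neg (LinearMap.BilinForm.toMatrix' : _ ≃ₗ[F] Matrix ι ι F), LinearMap.BilinForm.toMatrix'_compLeft, LinearMap.BilinForm.toMatrix'_compRight,
    LinearMap.toMatrix'_toLin'] at hT
  have hd := det_of_skew hM hG hT S.hk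
  have h1 : ((S.e g : Fˣ) : F) = 1 := by
    rw [e, coe_eps, hd, h', div_self (pow_ne_zero _ (neg_ne_zero.2 c.ne_zero))]
  rw [he] at h1
  exact S.neg_ne (Units.ext h1)

theorem self_adjoint (he : S.e g = -1) (hg : g * g = scal Q c) (x y : ι → F) :
    QuadraticMap.polar (⇑Q) (gm Q g *ᵥ x) y = QuadraticMap.polar (⇑Q) x (gm Q g *ᵥ y) := by
  have h1 := polar_gm g x (gm Q g *ᵥ y)
  rw [mulVec_mulVec, ← gm_mul, hg, gm_scal, smul_mulVec, one_mulVec, QuadraticMap.polar_smul_right, smul_eq_mul,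
    S.mu_eq_of_sq he hg] at h1
  exact mul_left_cancel₀ c.ne_zero h1

/-- Without eigenvectors there is an anisotropic vector orthogonal to its image. -/
theorem exists_orth_image (he : S.e g = -1) (hg : g * g = scal Q c) (hc : ¬ IsSquare (c : F)) :
    ∃ v, Q v ≠ 0 ∧ QuadraticMap.polar (⇑Q) v (gm Q g *ᵥ v) = 0 := by
  by_contra hno
  push Not at hno
  let f : (ι → F) →ₗ[F] (ι → F) := Matrix.toLin' (gm Q g)
  let P : QuadraticForm F (ι → F) :=
    LinearMap.BilinMap.toQuadraticMap ((LinearMap.compl₂ (QuadraticMap.polarBilin Q) f : LinearMap.BilinForm F (ι → F)))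
  have hP : ∀ x, P x = QuadraticMap.polar (⇑Q) x (gm Q g *ᵥ x) := fun x => by
    simp [P, f, Matrix.toLin'_apply]
  have hPp : ∀ x y, QuadraticMap.polar (⇑P) x y = 2 * QuadraticMap.polar (⇑Q) x (gm Q g *ᵥ y) := fun x y => by
    rw [QuadraticMap.polar, hP, hP, hP, mulVec_add, QuadraticMap.polar_add_left, QuadraticMap.polar_add_right,
      QuadraticMap.polar_add_right, ← S.self_adjoint he hg y x, QuadraticMap.polar_comm _ (gm Q g *ᵥ y) x]
    ring
  have hnd : ∀ x, (∀ y, QuadraticMap.polar (⇑P) x y = 0) → x = 0 := fun x hx => S.hQ.1 x fun y => by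
    show QuadraticMap.polar (⇑Q) x y = 0
    have := hx (gm Q g⁻¹ *ᵥ y)
    rw [hPp, mulVec_mulVec, ← gm_mul, mul_inv_cancel] at this
    rw [show gm Q (1 : GO Q) = 1 from rfl, one_mulVec] at this
    exact (mul_eq_zero.1 this).resolve_left S.h2
  have hQP : (QuadraticMap.polarBilin P).Nondegenerate :=
    ⟨hnd, fun x hx => hnd x fun y => by rw [QuadraticMap.polar_comm]; exact hx y⟩
  obtain ⟨u, -, r, -, hu, -, hur⟩ := exists_pair_perp P hQP ⊥ (by rw [finrank_bot]; have := S.hn; omega)
  have hu0 : u ≠ 0 := fun h => by rw [h, QuadraticMap.polar_zero_left] at hur; exact zero_ne_one hur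
  have hsing : ∀ z, P z = 0 → Q z = 0 := fun z hz => by
    by_contra h
    exact hno z h (by rw [← hP]; exact hz)
  have hmem : gm Q g⁻¹ *ᵥ u ∈ Submodule.span F ({u} : Set (ι → F)) := by
    refine mem_of_orth_singular P hQP _ (by rw [finrank_span_singleton hu0]; have := S.hn; omega) fun w hw hw0 => ?_
    have huw := hw u (Submodule.mem_span_singleton_self u)
    have h1 : P (u + w) = 0 := by
      rw [QuadraticMap.map_add (f := P), hu, hw0, zero_add, zero_add]; exact huw
    have h2 := hsing _ h1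
    rw [QuadraticMap.map_add (f := Q), hsing _ hu, hsing _ hw0, zero_add, zero_add] at h2
    rw [hPp, ← S.self_adjoint he hg, mulVec_mulVec, ← gm_mul, mul_inv_cancel, show gm Q (1 : GO Q) = 1 from rfl,
      one_mulVec, h2, mul_zero]
  obtain ⟨a, ha⟩ := Submodule.mem_span_singleton.1 hmem
  have e1 : u = a • (gm Q g *ᵥ u) := by
    rw [← mulVec_smul, ha, mulVec_mulVec, ← gm_mul, mul_inv_cancel]
    exact (one_mulVec u).symm
  have e2 : u = (a * a * c) • u := by
    conv_lhs => rw [e1, e1, mulVec_smul, mulVec_mulVec, ← gm_mul, hg, gm_scal, smul_mulVec, one_mulVec]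
    rw [smul_smul, smul_smul]
  have e3 : a * a * (c : F) = 1 := smul_left_injective F hu0 (by show (a * a * (c : F)) • u = (1 : F) • u; rw [← e2, one_smul])
  refine hc ⟨a⁻¹, ?_⟩
  have ha0 : a ≠ 0 := fun h => by rw [h] at e3; simp at e3
  field_simp
  linear_combination e3

theorem eigen_split (he : S.e g = -1) (hg : g * g = scal Q c) {d : F} (hd : (c : F) = d * d) :
    IsCompl (LinearMap.ker (Matrix.toLin' (gm Q g) - d • 1)) (LinearMap.ker (Matrix.toLin' (gm Q g) + d • 1)) ∧
      (∀ x, x ∈ LinearMap.ker (Matrix.toLin' (gm Q g) - d • 1) ↔ gm Q g *ᵥ x = d • x) ∧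
      (∀ x, x ∈ LinearMap.ker (Matrix.toLin' (gm Q g) + d • 1) ↔ gm Q g *ᵥ x = -(d • x)) ∧
      (∀ x y, gm Q g *ᵥ x = d • x → gm Q g *ᵥ y = -(d • y) → QuadraticMap.polar (⇑Q) x y = 0) := by
  have hd0 : d ≠ 0 := fun h => c.ne_zero (by rw [hd, h, mul_zero])
  have m1 : ∀ x, x ∈ LinearMap.ker (Matrix.toLin' (gm Q g) - d • 1) ↔ gm Q g *ᵥ x = d • x := fun x => by
    rw [LinearMap.mem_ker]; simp [Matrix.toLin'_apply, sub_eq_zero]
  have m2 : ∀ x, x ∈ LinearMap.ker (Matrix.toLin' (gm Q g) + d • 1) ↔ gm Q g *ᵥ x = -(d • x) := fun x => by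
    rw [LinearMap.mem_ker]; simp [Matrix.toLin'_apply, add_eq_zero_iff_eq_neg]
  refine ⟨⟨Submodule.disjoint_def.2 fun x h h' => ?_, codisjoint_iff.2 (eq_top_iff.2 fun x _ => ?_)⟩, m1, m2, ?_⟩
  · have e := ((m1 x).1 h).symm.trans ((m2 x).1 h')
    rw [eq_neg_iff_add_eq_zero, ← add_smul, ← two_mul, smul_eq_zero] at e
    exact e.resolve_left (mul_ne_zero S.h2 hd0)
  · have hh : gm Q g *ᵥ (gm Q g *ᵥ x) = (d * d) • x := by
      rw [mulVec_mulVec, ← gm_mul, hg, gm_scal, smul_mulVec, one_mulVec, hd]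
    refine Submodule.mem_sup.2 ⟨(2 * d)⁻¹ • (gm Q g *ᵥ x + d • x), (m1 _).2 ?_,
      (2 * d)⁻¹ • (d • x - gm Q g *ᵥ x), (m2 _).2 ?_, ?_⟩
    · rw [mulVec_smul, mulVec_add, mulVec_smul, hh]; module
    · rw [mulVec_smul, mulVec_sub, mulVec_smul, hh]; module
    · rw [← smul_add, add_add_sub_cancel_left_aux (gm Q g *ᵥ x) (d • x), ← two_smul F, smul_smul, smul_smul,
        mul_assoc, inv_mul_cancel₀ (mul_ne_zero S.h2 hd0), one_smul]
  · intro x y hx hy
    have := S.self_adjoint he hg x y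
    rw [hx, hy, ← neg_smul, QuadraticMap.polar_smul_left, QuadraticMap.polar_smul_right, smul_eq_mul, smul_eq_mul] at this
    have h2d : 2 * d ≠ 0 := mul_ne_zero S.h2 hd0
    exact (mul_eq_zero.1 (by linear_combination this : 2 * d * QuadraticMap.polar (⇑Q) x y = 0)).resolve_left h2d
where add_add_sub_cancel_left_aux {M : Type u} [AddCommGroup M] (p q : M) : p + q + (q - p) = q + q := by abel

/-- Such an element centralises an element of `SO` outside `Ω`. -/
theorem exists_fixed (he : S.e g = -1) (hg : g * g = scal Q c) :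
    ∃ h : Cfsg.isometryGroup F (⇑Q), detHom Q h = 1 ∧ spin Q h = -1 ∧ conjIso Q g h = h := by
  classical
  have hn2 : 2 ≤ Fintype.card ι := by have := S.hn; omega
  have hscale : ∀ (v : ι → F) (hv : Q v ≠ 0) (t : F) (htv : Q (t • v) ≠ 0), refl Q (t • v) htv = refl Q v hv := by
    intro v hv t htv
    have ht : t ≠ 0 := fun h => htv (by rw [h, zero_smul, QuadraticMap.map_zero])
    refine ext_mulVec Q fun x => ?_
    show Cfsg.reflectionMatrix (⇑Q) (t • v) *ᵥ x = Cfsg.reflectionMatrix (⇑Q) v *ᵥ x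
    rw [mulVec_eq, mulVec_eq, QuadraticMap.map_smul, QuadraticMap.polar_smul_left, smul_smul]
    congr 2
    simp only [smul_eq_mul]
    field_simp
  by_cases hc : IsSquare (c : F)
  · obtain ⟨d, hd⟩ := hc
    obtain ⟨hcompl, m1, m2, horth⟩ := S.eigen_split he hg hd
    set W₁ := LinearMap.ker (Matrix.toLin' (gm Q g) - d • 1)
    set W₂ := LinearMap.ker (Matrix.toLin' (gm Q g) + d • 1)
    have hsum := Submodule.finrank_add_eq_of_isCompl hcompl
    rw [Module.finrank_fintype_fun_eq_card] at hsum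
    have hd0 : d ≠ 0 := fun h => c.ne_zero (by rw [hd, h, mul_zero])
    obtain ⟨b, hb⟩ := exists_nonsq (F := F) S.h2
    obtain ⟨x, y, hx, hy, gx, gy, hns⟩ : ∃ x y, Q x ≠ 0 ∧ Q y ≠ 0 ∧ (∃ t : F, gm Q g *ᵥ x = t • x) ∧
        (∃ t : F, gm Q g *ᵥ y = t • y) ∧ ¬ IsSquare (Q x * Q y) := by
      have key : ∀ (A B : Submodule F (ι → F)) (t : F), IsCompl A B → (∀ x ∈ A, gm Q g *ᵥ x = t • x) →
          (∀ x ∈ A, ∀ y ∈ B, QuadraticMap.polar (⇑Q) x y = 0) → 2 ≤ Module.finrank F A →
          ∃ x y, Q x ≠ 0 ∧ Q y ≠ 0 ∧ (∃ t : F, gm Q g *ᵥ x = t • x) ∧ (∃ t : F, gm Q g *ᵥ y = t • y) ∧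
            ¬ IsSquare (Q x * Q y) := by
        intro A B t hAB hA ho hdim
        have hND : FormNormal.ND Q A := fun z hz hzz => S.hQ.1 z fun w => by
          show QuadraticMap.polar (⇑Q) z w = 0
          obtain ⟨p, hp, q, hq, rfl⟩ := Submodule.mem_sup.1 (hAB.sup_eq_top ▸ Submodule.mem_top (x := w))
          rw [QuadraticMap.polar_add_right, ho z hz q hq, add_zero]
          exact hzz p hp
        obtain ⟨x, hx, qx⟩ := FormNormal.exists_value Q A hND hdim 1 one_ne_zero
        obtain ⟨y, hy, qy⟩ := FormNormal.exists_value Q A hND hdim b b.ne_zero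
        exact ⟨x, y, by rw [qx]; exact one_ne_zero, by rw [qy]; exact b.ne_zero, ⟨t, hA x hx⟩, ⟨t, hA y hy⟩,
          by rw [qx, qy, one_mul]; exact hb⟩
      by_cases h : 2 ≤ Module.finrank F W₁
      · exact key W₁ W₂ d hcompl (fun x hx => (m1 x).1 hx) (fun x hx y hy => horth x y ((m1 x).1 hx) ((m2 y).1 hy)) h
      · exact key W₂ W₁ (-d) hcompl.symm (fun x hx => by rw [neg_smul]; exact (m2 x).1 hx)
          (fun x hx y hy => by rw [QuadraticMap.polar_comm]; exact horth y x ((m1 y).1 hy) ((m2 x).1 hx))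
          (by have := S.hn; omega)
    refine ⟨refl Q x hx * refl Q y hy, ?_, spin_refl_mul S.h2 S.hQ hn2 hx hy hns, ?_⟩
    · rw [map_mul, detHom_refl, detHom_refl, neg_mul_neg, one_mul]
    · have fix : ∀ z (hz : Q z ≠ 0), (∃ t : F, gm Q g *ᵥ z = t • z) → conjIso Q g (refl Q z hz) = refl Q z hz := by
        rintro z hz ⟨t, ht⟩
        have hz' : Q (gm Q g *ᵥ z) ≠ 0 := by rw [mu_spec]; exact mul_ne_zero (Units.ne_zero _) hz
        rw [S.conjIso_refl g hz hz']
        have := hscale z hz t (ht ▸ hz')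
        simp only [← ht] at this
        exact this
      rw [map_mul, fix x hx gx, fix y hy gy]
  · obtain ⟨v, hv, hvg⟩ := S.exists_orth_image he hg hc
    have hmu := S.mu_eq_of_sq he hg
    have hgv : Q (gm Q g *ᵥ v) ≠ 0 := by rw [mu_spec]; exact mul_ne_zero (Units.ne_zero _) hv
    refine ⟨refl Q v hv * refl Q _ hgv, ?_, spin_refl_mul S.h2 S.hQ hn2 hv hgv ?_, ?_⟩
    · rw [map_mul, detHom_refl, detHom_refl, neg_mul_neg, one_mul]
    · rw [mu_spec, hmu]
      rintro ⟨t, ht⟩
      refine hc ⟨t / Q v, ?_⟩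
      field_simp
      linear_combination ht
    · have e2 : gm Q g *ᵥ (gm Q g *ᵥ v) = (c : F) • v := by
        rw [mulVec_mulVec, ← gm_mul, hg, gm_scal, smul_mulVec, one_mulVec]
      have hggv : Q (gm Q g *ᵥ (gm Q g *ᵥ v)) ≠ 0 := by rw [mu_spec]; exact mul_ne_zero (Units.ne_zero _) hgv
      have e3 : refl Q _ hggv = refl Q v hv := by
        have := hscale v hv c (e2 ▸ hggv)
        simp only [← e2] at this
        exact this
      rw [map_mul, S.conjIso_refl g hv hgv, S.conjIso_refl g hgv hggv, e3]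
      have comm : refl Q _ hgv * refl Q v hv = refl Q v hv * refl Q _ hgv := by
        refine ext_mulVec Q fun x => ?_
        show (Cfsg.reflectionMatrix (⇑Q) (gm Q g *ᵥ v) * Cfsg.reflectionMatrix (⇑Q) v) *ᵥ x =
          (Cfsg.reflectionMatrix (⇑Q) v * Cfsg.reflectionMatrix (⇑Q) (gm Q g *ᵥ v)) *ᵥ x
        rw [← mulVec_mulVec, ← mulVec_mulVec, mulVec_eq, mulVec_eq, mulVec_eq, mulVec_eq]
        simp only [QuadraticMap.polar_sub_right, QuadraticMap.polar_smul_right, hvg,
          QuadraticMap.polar_comm _ (gm Q g *ᵥ v) v, smul_zero, sub_zero]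
        abel
      exact comm

/-- When the half dimension is even, an element projectively commuting with such an element has square multiplier. -/
theorem no_swap (he : S.e g = -1) (hg : g * g = scal Q c) (hk2 : Even k) {h : GO Q} {z : Fˣ}
    (hh : h * g = scal Q z * (g * h)) : IsSquare (mu Q h) := by
  classical
  by_cases hc : IsSquare (c : F)
  swap
  · exfalso
    have hd : (gm Q g).det = (-(c : F)) ^ k := det_of_irred (by rw [← gm_mul, hg, gm_scal]) hc S.hk
    have h1 : ((S.e g : Fˣ) : F) = 1 := by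
      rw [e, coe_eps, hd, S.mu_eq_of_sq he hg, hk2.neg_pow, div_self (pow_ne_zero _ c.ne_zero)]
    rw [he] at h1
    exact S.neg_ne (Units.ext h1)
  obtain ⟨d, hd⟩ := hc
  obtain ⟨hcompl, m1, m2, horth⟩ := S.eigen_split he hg hd
  have hd0 : d ≠ 0 := fun h => c.ne_zero (by rw [hd, h, mul_zero])
  set W₁ := LinearMap.ker (Matrix.toLin' (gm Q g) - d • 1)
  set W₂ := LinearMap.ker (Matrix.toLin' (gm Q g) + d • 1)
  have hsum := Submodule.finrank_add_eq_of_isCompl hcompl
  rw [Module.finrank_fintype_fun_eq_card, S.hk] at hsum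
  -- the determinant of `g`
  have hodd : Odd (Module.finrank F W₂) := by
    have hdet : (gm Q g).det = d ^ Module.finrank F W₁ * (-d) ^ Module.finrank F W₂ := by
      have e : Matrix.toLin' (gm Q g) ∘ₗ (Submodule.prodEquivOfIsCompl W₁ W₂ hcompl).toLinearMap =
          (Submodule.prodEquivOfIsCompl W₁ W₂ hcompl).toLinearMap ∘ₗ (d • LinearMap.id).prodMap ((-d) • LinearMap.id) := by
        refine LinearMap.ext fun p => ?_
        simp [Matrix.toLin'_apply, mulVec_add, (m1 _).1 p.1.2, (m2 _).1 p.2.2, neg_smul]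
      have e' : (Submodule.prodEquivOfIsCompl W₁ W₂ hcompl).toLinearMap ∘ₗ (d • LinearMap.id).prodMap ((-d) • LinearMap.id) ∘ₗ
          (Submodule.prodEquivOfIsCompl W₁ W₂ hcompl).symm.toLinearMap = Matrix.toLin' (gm Q g) := by
        rw [← LinearMap.comp_assoc, ← e, LinearMap.comp_assoc, LinearEquiv.comp_coe, LinearEquiv.symm_trans_self,
          LinearEquiv.refl_toLinearMap, LinearMap.comp_id]
      rw [← LinearMap.det_toLin', ← e', LinearMap.det_conj, LinearMap.det_prodMap, LinearMap.det_smul,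
        LinearMap.det_smul, LinearMap.det_id, LinearMap.det_id, mul_one, mul_one]
    by_contra hh'
    rw [Nat.not_odd_iff_even] at hh'
    rw [hh'.neg_pow, ← pow_add, hsum, pow_mul, pow_two, ← hd] at hdet
    have h1 : ((S.e g : Fˣ) : F) = 1 := by
      rw [e, coe_eps, hdet, S.mu_eq_of_sq he hg, div_self (pow_ne_zero _ c.ne_zero)]
    rw [he] at h1
    exact S.neg_ne (Units.ext h1)
  let f : (ι → F) →ₗ[F] (ι → F) := Matrix.toLin' (gm Q h)
  have finj : Function.Injective f := by
    show Function.Injective (fun x => gm Q h *ᵥ x)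
    exact Matrix.mulVec_injective_iff_isUnit.2 (Units.isUnit _)
  have hcomm : ∀ x, gm Q h *ᵥ (gm Q g *ᵥ x) = (z : F) • (gm Q g *ᵥ (gm Q h *ᵥ x)) := fun x => by
    rw [mulVec_mulVec, mulVec_mulVec, ← gm_mul, ← gm_mul, hh, gm_mul, gm_scal, Matrix.smul_mul, Matrix.one_mul,
      smul_mulVec]
  have hz : (z : F) * z = 1 := by
    have hz2 : z * z = 1 := by
      have := congrArg (mu Q) hh
      rw [mu_mul Q S.hQ S.hn, mu_mul Q S.hQ S.hn, mu_mul Q S.hQ S.hn, mu_scal Q S.hQ S.hn, mul_comm (mu Q h)] at this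
      exact mul_eq_right.1 this.symm
    rw [← Units.val_mul, hz2, Units.val_one]
  rcases mul_self_eq_one_iff.1 hz with hz1 | hz1
  · -- the eigenspace is preserved
    have hpres : ∀ x ∈ W₂, f x ∈ W₂ := fun x hx => by
      rw [m2]
      have := hcomm x
      rw [(m2 x).1 hx, hz1, one_smul, mulVec_neg, mulVec_smul] at this
      exact this.symm
    let f' : W₂ →ₗ[F] W₂ := f.restrict hpres
    let B : LinearMap.BilinForm F W₂ := LinearMap.BilinForm.restrict (QuadraticMap.polarBilin Q) W₂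
    have hB : B.comp f' f' = (mu Q h : F) • B := LinearMap.ext₂ fun x y => polar_gm h x.1 y.1
    have hnd : B.Nondegenerate := by
      have h0 : ∀ x : W₂, (∀ y, B x y = 0) → x = 0 := fun x hx => Subtype.ext (S.hQ.1 x.1 fun w => by
        show QuadraticMap.polar (⇑Q) x.1 w = 0
        obtain ⟨p, hp, q, hq, rfl⟩ := Submodule.mem_sup.1 (hcompl.sup_eq_top ▸ Submodule.mem_top (x := w))
        rw [QuadraticMap.polar_add_right, QuadraticMap.polar_comm _ x.1 p, horth p x.1 ((m1 p).1 hp) ((m2 x.1).1 x.2),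
          zero_add]
        exact hx ⟨q, hq⟩)
      exact ⟨h0, fun x hx => h0 x fun y => by
        show QuadraticMap.polar (⇑Q) x.1 y.1 = 0
        rw [QuadraticMap.polar_comm]; exact hx y⟩
    let b := Module.finBasis F W₂
    have h1 := congrArg Matrix.det (congrArg (LinearMap.BilinForm.toMatrix b) hB)
    rw [LinearMap.BilinForm.toMatrix_comp b b, map_smul, det_smul, det_mul, det_mul, det_transpose, Fintype.card_fin] at h1
    have hM := (LinearMap.BilinForm.nondegenerate_iff_det_ne_zero b).1 hnd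
    have hsq : ((LinearMap.toMatrix b b f').det) ^ 2 = (mu Q h : F) ^ Module.finrank F W₂ :=
      mul_right_cancel₀ hM (by linear_combination h1)
    obtain ⟨j, hj⟩ := hodd
    generalize (LinearMap.toMatrix b b f').det = D at hsq
    rw [hj] at hsq
    refine (S.t_eq_one_iff h).1 (Units.ext ?_)
    have hs : IsSquare (mu Q h : F) := ⟨D / (mu Q h : F) ^ j, by
      have h0 : (mu Q h : F) ^ j ≠ 0 := pow_ne_zero _ (Units.ne_zero _)
      rw [div_mul_div_comm, ← pow_two, hsq, eq_div_iff (mul_ne_zero h0 h0)]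
      ring⟩
    rw [theta_apply, Units.val_pow_eq_pow_val, Units.val_one]
    exact (FiniteField.isSquare_iff S.hc2 (Units.ne_zero _)).1 hs
  · -- the eigenspaces are exchanged, so their dimensions are equal
    exfalso
    have h12 : W₁.map f ≤ W₂ := by
      rintro _ ⟨x, hx, rfl⟩
      rw [m2]
      have := hcomm x
      rw [(m1 x).1 hx, hz1, neg_one_smul, mulVec_smul] at this
      exact (neg_eq_iff_eq_neg.1 this.symm)
    have h21 : W₂.map f ≤ W₁ := by
      rintro _ ⟨x, hx, rfl⟩
      rw [m1]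
      have := hcomm x
      rw [(m2 x).1 hx, hz1, neg_one_smul, mulVec_neg, mulVec_smul, neg_inj] at this
      exact this.symm
    have a1 := Submodule.finrank_mono h12
    have a2 := Submodule.finrank_mono h21
    rw [← LinearEquiv.finrank_eq (Submodule.equivMapOfInjective f finj W₁)] at a1
    rw [← LinearEquiv.finrank_eq (Submodule.equivMapOfInjective f finj W₂)] at a2
    rw [Nat.odd_iff] at hodd
    rw [Nat.even_iff] at hk2
    omega

end Setup

end Cfsg.Lib.OrthSim
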