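import Cfsg.Agent.Known.OrthSim.Quot
import Cfsg.Agent.Classical.Orth.Simple
import Cfsg.Agent.Classical.Misc.NegOne
import Cfsg.Prelude.Def_LieTypeDatum

/-!
Similitudes of quadratic forms in even dimension, odd characteristic: multiplier, determinant sign, the action on `PΩ`.
-/

set_option autoImplicit false
set_option linter.unusedSectionVars false
set_option linter.style.haveILetI false

namespace Cfsg.Lib.OrthSim

open Matrix Cfsg.Lib.Classical Cfsg.Lib.Classical.Refl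

universe u

variable {F : Type u} [Field F] [Fintype F] {ι : Type} [Fintype ι] [DecidableEq ι] (Q : QuadraticForm F (ι → F))

/-- The similitude group. -/
abbrev GO : Subgroup (GL ι F) := Cfsg.Geo.quadSimilarityGroup (F := F) (⇑Q)

/-- The matrix of a similitude. -/
abbrev gm (g : GO Q) : Matrix ι ι F := ((g : GL ι F) : Matrix ι ι F)

theorem go_ext {g h : GO Q} (e : gm Q g = gm Q h) : g = h := Subtype.ext (Units.ext e)

theorem gm_mul (g h : GO Q) : gm Q (g * h) = gm Q g * gm Q h := rfl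

/-- Isometries as similitudes. -/
def toGO : Cfsg.isometryGroup F (⇑Q) →* GO Q where
  toFun g := ⟨(g : GL ι F), 1, fun v => by rw [Units.val_one, one_mul]; exact (mem_iff Q).1 g.2 v⟩
  map_one' := rfl
  map_mul' _ _ := rfl

theorem gm_toGO (g : Cfsg.isometryGroup F (⇑Q)) : gm Q (toGO Q g) = mat Q g := rfl

theorem toGO_injective : Function.Injective (toGO Q) := fun _ _ h =>
  Subtype.ext (congrArg (fun z : GO Q => (z : GL ι F)) h)

/-- Scalar similitudes. -/
noncomputable def scal : Fˣ →* GO Q :=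
  (Units.map (Matrix.scalar ι : F →+* Matrix ι ι F).toMonoidHom).codRestrict (GO Q) fun c =>
    ⟨c * c, fun v => by
      show Q (Matrix.scalar ι (c : F) *ᵥ v) = _
      rw [scalar_apply, ← smul_one_eq_diagonal, smul_mulVec, one_mulVec, QuadraticMap.map_smul, smul_eq_mul,
        Units.val_mul]⟩

theorem gm_scal (c : Fˣ) : gm Q (scal Q c) = (c : F) • 1 := by
  show Matrix.scalar ι (c : F) = _
  rw [scalar_apply, smul_one_eq_diagonal]

theorem scal_comm (c : Fˣ) (g : GO Q) : scal Q c * g = g * scal Q c := go_ext Q (by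
  rw [gm_mul, gm_mul, gm_scal, Matrix.smul_mul, Matrix.one_mul, Matrix.mul_smul, Matrix.mul_one])

variable (hQ : (QuadraticMap.polarBilin Q).Nondegenerate) (hn : 7 ≤ Fintype.card ι)

/-- The multiplier. -/
noncomputable def mu (g : GO Q) : Fˣ := g.2.choose

theorem mu_spec (g : GO Q) (v : ι → F) : Q (gm Q g *ᵥ v) = (mu Q g : F) * Q v := g.2.choose_spec v

include hQ hn

theorem exists_anisotropic : ∃ v, Q v = 1 := by
  obtain ⟨v, -, hv⟩ := exists_norm_in_perp Q hQ ⊥ (by rw [finrank_bot]; omega) 1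
  exact ⟨v, hv⟩

theorem mu_eq {g : GO Q} {c : Fˣ} (h : ∀ v, Q (gm Q g *ᵥ v) = (c : F) * Q v) : mu Q g = c := by
  obtain ⟨v, hv⟩ := exists_anisotropic Q hQ hn
  have := (mu_spec Q g v).symm.trans (h v)
  rw [hv, mul_one, mul_one] at this
  exact Units.ext this

theorem mu_mul (g h : GO Q) : mu Q (g * h) = mu Q g * mu Q h := mu_eq Q hQ hn fun v => by
  rw [gm_mul, ← mulVec_mulVec, mu_spec, mu_spec, Units.val_mul, mul_assoc]

/-- The multiplier as a homomorphism. -/
noncomputable def muHom : GO Q →* Fˣ := MonoidHom.mk' (mu Q) (mu_mul Q hQ hn)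

theorem mu_toGO (g : Cfsg.isometryGroup F (⇑Q)) : mu Q (toGO Q g) = 1 := mu_eq Q hQ hn fun v => by
  rw [Units.val_one, one_mul]; exact (mem_iff Q).1 g.2 v

theorem mu_scal (c : Fˣ) : mu Q (scal Q c) = c * c := mu_eq Q hQ hn fun v => by
  rw [gm_scal, smul_mulVec, one_mulVec, QuadraticMap.map_smul, smul_eq_mul, Units.val_mul]

theorem exists_iso_of_mu {g : GO Q} (h : mu Q g = 1) : ∃ s, g = toGO Q s :=
  ⟨⟨(g : GL ι F), (mem_iff Q).2 fun v => by
    show Q (gm Q g *ᵥ v) = Q v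
    rw [mu_spec, h, Units.val_one, one_mul]⟩, go_ext Q rfl⟩

theorem det_sq' (g : GO Q) : (gm Q g).det ^ 2 = (mu Q g : F) ^ Fintype.card ι := by
  let B : LinearMap.BilinForm F (ι → F) := QuadraticMap.polarBilin Q
  have hB : B.comp (Matrix.toLin' (gm Q g)) (Matrix.toLin' (gm Q g)) = (mu Q g : F) • B := by
    refine LinearMap.ext₂ fun x y => ?_
    show QuadraticMap.polar (⇑Q) (Matrix.toLin' (gm Q g) x) (Matrix.toLin' (gm Q g) y) =
      (mu Q g : F) * QuadraticMap.polar (⇑Q) x y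
    rw [Matrix.toLin'_apply, Matrix.toLin'_apply, QuadraticMap.polar, QuadraticMap.polar, ← Matrix.mulVec_add,
      mu_spec, mu_spec, mu_spec]
    ring
  have h1 := congrArg (fun C => Matrix.det (LinearMap.BilinForm.toMatrix' C)) hB
  simp only [LinearMap.BilinForm.toMatrix'_comp, LinearMap.toMatrix'_toLin', map_smul, det_smul, det_mul,
    det_transpose] at h1
  have hM : (LinearMap.BilinForm.toMatrix' B).det ≠ 0 :=
    LinearMap.BilinForm.nondegenerate_toBilin'_iff_det_ne_zero.1 (by rw [Matrix.toBilin'_toMatrix']; exact hQ)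
  exact mul_right_cancel₀ hM (by linear_combination h1)

variable {k : ℕ} (hk : Fintype.card ι = 2 * k)

/-- The sign of a similitude in even dimension. -/
noncomputable def eps (_ : Fintype.card ι = 2 * k) : GO Q →* Fˣ :=
  (Matrix.GeneralLinearGroup.det.comp (GO Q).subtype) / ((powMonoidHom k).comp (muHom Q hQ hn))

theorem eps_apply (g : GO Q) :
    eps Q hQ hn hk g = Matrix.GeneralLinearGroup.det (g : GL ι F) / mu Q g ^ k := rfl

theorem coe_eps (g : GO Q) : ((eps Q hQ hn hk g : Fˣ) : F) = (gm Q g).det / (mu Q g : F) ^ k := by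
  rw [eps_apply, Units.val_div_eq_div_val, Units.val_pow_eq_pow_val]; rfl

theorem eps_pm (g : GO Q) : eps Q hQ hn hk g = 1 ∨ eps Q hQ hn hk g = -1 := by
  have h : ((eps Q hQ hn hk g : Fˣ) : F) * (eps Q hQ hn hk g : Fˣ) = 1 := by
    rw [coe_eps, div_mul_div_comm, ← pow_two, det_sq' Q hQ hn, hk, two_mul, pow_add, div_self]
    exact mul_ne_zero (pow_ne_zero _ (Units.ne_zero _)) (pow_ne_zero _ (Units.ne_zero _))
  rcases mul_self_eq_one_iff.1 h with e | e
  · exact Or.inl (Units.ext e)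
  · exact Or.inr (Units.ext e)

theorem eps_toGO (g : Cfsg.isometryGroup F (⇑Q)) : eps Q hQ hn hk (toGO Q g) = detHom Q g := by
  rw [eps_apply, mu_toGO Q hQ hn, one_pow, div_one]; rfl

theorem eps_scal (c : Fˣ) : eps Q hQ hn hk (scal Q c) = 1 := by
  have h : Matrix.GeneralLinearGroup.det (scal Q c : GL ι F) = c ^ Fintype.card ι := Units.ext (by
    show (gm Q (scal Q c)).det = _
    rw [gm_scal, det_smul, det_one, mul_one, Units.val_pow_eq_pow_val])
  rw [eps_apply, mu_scal Q hQ hn, h, hk, ← pow_two, ← pow_mul, div_self']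

/-- The square class of the multiplier. -/
noncomputable def theta : GO Q →* Fˣ := (powMonoidHom (Fintype.card F / 2)).comp (muHom Q hQ hn)

theorem theta_apply (g : GO Q) : theta Q hQ hn g = mu Q g ^ (Fintype.card F / 2) := rfl

/-- The kernel of both signs: `SO` times scalars. -/
noncomputable def KK (hk : Fintype.card ι = 2 * k) : Subgroup (GO Q) :=
  (eps Q hQ hn hk).ker ⊓ (theta Q hQ hn).ker

theorem mem_KK (h2 : (2 : F) ≠ 0) {g : GO Q} : g ∈ KK Q hQ hn hk ↔ ∃ (c : Fˣ) (h : Cfsg.isometryGroup F (⇑Q)),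
    detHom Q h = 1 ∧ g = scal Q c * toGO Q h := by
  have hc2 : ringChar F ≠ 2 := fun h => h2 (by haveI := ringChar.of_eq h; exact CharTwo.two_eq_zero)
  rw [KK, Subgroup.mem_inf, MonoidHom.mem_ker, MonoidHom.mem_ker]
  constructor
  · rintro ⟨he, ht⟩
    obtain ⟨c, hc⟩ := (FiniteField.unit_isSquare_iff hc2 (mu Q g)).2 (by rw [← theta_apply]; exact ht)
    obtain ⟨h, hh⟩ := exists_iso_of_mu Q hQ hn (g := scal Q c⁻¹ * g)
      (by rw [mu_mul Q hQ hn, mu_scal Q hQ hn, hc, ← mul_inv, inv_mul_cancel])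
    refine ⟨c, h, ?_, by rw [← hh, ← mul_assoc, ← map_mul, mul_inv_cancel, map_one, one_mul]⟩
    rw [← eps_toGO Q hQ hn hk, ← hh, map_mul, eps_scal Q hQ hn hk, one_mul, he]
  · rintro ⟨c, h, hd, rfl⟩
    refine ⟨by rw [map_mul, eps_scal Q hQ hn hk, one_mul, eps_toGO Q hQ hn hk, hd], ?_⟩
    rw [map_mul, theta_apply, theta_apply, mu_toGO Q hQ hn, one_pow, mul_one, mu_scal Q hQ hn]
    exact (FiniteField.unit_isSquare_iff hc2 _).1 ⟨c, rfl⟩

omit hQ hn

/-- `Ω` times scalars. -/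
noncomputable def NN : Subgroup (GO Q) :=
  (((toGO Q).comp (Cfsg.Omega F (⇑Q)).subtype).noncommCoprod (scal Q) fun s c => (scal_comm Q c _).symm).range

theorem mem_NN {g : GO Q} : g ∈ NN Q ↔ ∃ (c : Fˣ) (s : Cfsg.isometryGroup F (⇑Q)),
    s ∈ Cfsg.Omega F (⇑Q) ∧ g = scal Q c * toGO Q s := by
  constructor
  · rintro ⟨⟨s, c⟩, rfl⟩
    exact ⟨c, s.1, s.2, (scal_comm Q c _).symm⟩
  · rintro ⟨c, s, hs, rfl⟩
    exact ⟨(⟨s, hs⟩, c), (scal_comm Q c _).symm⟩

/-- Conjugation of isometries by similitudes. -/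
noncomputable def conjIso : GO Q →* MulAut (Cfsg.isometryGroup F (⇑Q)) :=
  MonoidHom.mk' (fun g =>
    { toFun := fun s => ⟨(g : GL ι F) * s * (g : GL ι F)⁻¹, (mem_iff Q).2 fun x => by
        show Q ((gm Q g * ((s : GL ι F) : Matrix ι ι F) * gm Q g⁻¹) *ᵥ x) = Q x
        rw [← mulVec_mulVec, ← mulVec_mulVec, mu_spec, (mem_iff Q).1 s.2, ← mu_spec Q g, mulVec_mulVec, ← gm_mul,
          mul_inv_cancel]
        show Q ((1 : Matrix ι ι F) *ᵥ x) = Q x
        rw [one_mulVec]⟩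
      invFun := fun s => ⟨(g : GL ι F)⁻¹ * s * (g : GL ι F), (mem_iff Q).2 fun x => by
        show Q ((gm Q g⁻¹ * ((s : GL ι F) : Matrix ι ι F) * gm Q g) *ᵥ x) = Q x
        rw [← mulVec_mulVec, ← mulVec_mulVec, mu_spec, (mem_iff Q).1 s.2, ← mu_spec Q g⁻¹, mulVec_mulVec, ← gm_mul,
          inv_mul_cancel]
        show Q ((1 : Matrix ι ι F) *ᵥ x) = Q x
        rw [one_mulVec]⟩
      left_inv := fun s => Subtype.ext (by simp [mul_assoc])
      right_inv := fun s => Subtype.ext (by simp [mul_assoc])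
      map_mul' := fun s t => Subtype.ext (by simp [mul_assoc]) })
    fun g h => MulEquiv.ext fun s => Subtype.ext (by simp [mul_assoc, _root_.mul_inv_rev])

theorem toGO_conjIso (g : GO Q) (s : Cfsg.isometryGroup F (⇑Q)) : toGO Q (conjIso Q g s) = g * toGO Q s * g⁻¹ :=
  Subtype.ext rfl

theorem conjIso_omega (g : GO Q) {s : Cfsg.isometryGroup F (⇑Q)} :
    conjIso Q g s ∈ Cfsg.Omega F (⇑Q) ↔ s ∈ Cfsg.Omega F (⇑Q) := by
  have h : (Cfsg.Omega F (⇑Q)).map (conjIso Q g).toMonoidHom = Cfsg.Omega F (⇑Q) :=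
    Subgroup.characteristic_iff_map_eq.1 inferInstance (conjIso Q g)
  conv_lhs => rw [← h]
  exact Subgroup.mem_map_equiv.trans (by rw [MulEquiv.symm_apply_apply])

theorem nn_normal : (NN Q).Normal := ⟨fun x hx g => by
  obtain ⟨c, s, hs, rfl⟩ := (mem_NN Q).1 hx
  refine (mem_NN Q).2 ⟨c, conjIso Q g s, (conjIso_omega Q g).2 hs, ?_⟩
  rw [toGO_conjIso, ← mul_assoc, ← scal_comm Q c g]
  group⟩

/-- Conjugation of `Ω` by similitudes. -/
noncomputable def conjOm : GO Q →* MulAut (Cfsg.Omega F (⇑Q)) :=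
  MonoidHom.mk' (fun g =>
    { toFun := fun s => ⟨conjIso Q g s.1, (conjIso_omega Q g).2 s.2⟩
      invFun := fun s => ⟨(conjIso Q g).symm s.1, (conjIso_omega Q g).1 (by rw [MulEquiv.apply_symm_apply]; exact s.2)⟩
      left_inv := fun s => Subtype.ext ((conjIso Q g).symm_apply_apply s.1)
      right_inv := fun s => Subtype.ext ((conjIso Q g).apply_symm_apply s.1)
      map_mul' := fun s t => Subtype.ext (map_mul (conjIso Q g) s.1 t.1) })
    fun g h => MulEquiv.ext fun s => Subtype.ext (by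
      show conjIso Q (g * h) s.1 = conjIso Q g (conjIso Q h s.1)
      rw [map_mul]; rfl)

/-- Conjugation of `PΩ` by similitudes. -/
noncomputable def conjPO : GO Q →* MulAut (Cfsg.POmega F (⇑Q)) :=
  MonoidHom.mk' (fun g => QuotientGroup.congr _ _ (conjOm Q g) (Subgroup.characteristic_iff_map_eq.1 inferInstance _))
    fun g h => MulEquiv.ext fun x => QuotientGroup.induction_on x fun s => by
      show QuotientGroup.mk (conjOm Q (g * h) s) = QuotientGroup.mk (conjOm Q g (conjOm Q h s))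
      rw [map_mul]; rfl

theorem conjPO_apply (g : GO Q) (s : Cfsg.Omega F (⇑Q)) :
    conjPO Q g (QuotientGroup.mk s) = QuotientGroup.mk (conjOm Q g s) := rfl

theorem induced_iff (g : GO Q) (β : MulAut (Cfsg.POmega F (⇑Q))) :
    Cfsg.IsInducedBySemilinearPOmega (⇑Q) (g : GL ι F) (RingEquiv.refl F) β ↔ β = conjPO Q g := by
  constructor
  · intro h
    refine MulEquiv.ext fun x => QuotientGroup.induction_on x fun s => ?_
    exact h s (conjOm Q g s) (by simp [conjOm, conjIso])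
  · rintro rfl s s' h
    rw [conjPO_apply]
    refine congrArg _ (Subtype.ext (Subtype.ext (Units.ext ?_)))
    rw [h]
    simp [conjOm, conjIso]

theorem closure_eq_map (P : MulAut (Cfsg.POmega F (⇑Q)) → Prop) (M : Subgroup (GO Q))
    (h : ∀ β, P β ↔ ∃ g ∈ M, β = conjPO Q g) : Cfsg.autSubgroupOf P = M.map (conjPO Q) := by
  refine le_antisymm ((Subgroup.closure_le _).2 fun β hβ => ?_) ?_
  · obtain ⟨g, hg, rfl⟩ := (h β).1 hβ
    exact ⟨g, hg, rfl⟩
  · rintro _ ⟨g, hg, rfl⟩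
    exact Subgroup.subset_closure ((h _).2 ⟨g, hg, rfl⟩)

theorem pgoAut_eq : Cfsg.pgoAut F (⇑Q) = (⊤ : Subgroup (GO Q)).map (conjPO Q) :=
  closure_eq_map Q _ _ fun β => ⟨fun ⟨g, hg, h⟩ => ⟨⟨g, hg⟩, trivial, (induced_iff Q ⟨g, hg⟩ β).1 h⟩,
    fun ⟨g, _, h⟩ => ⟨g.1, g.2, (induced_iff Q g β).2 h⟩⟩

theorem psoAut_eq : Cfsg.psoAut F (⇑Q) = ((detHom Q).ker.map (toGO Q)).map (conjPO Q) := by
  refine closure_eq_map Q _ _ fun β => ⟨?_, ?_⟩
  · rintro ⟨g, ⟨hg, hd⟩, h⟩
    exact ⟨toGO Q ⟨g, hg⟩, ⟨⟨g, hg⟩, hd, rfl⟩, (induced_iff Q (toGO Q ⟨g, hg⟩) β).1 h⟩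
  · rintro ⟨_, ⟨s, hs, rfl⟩, rfl⟩
    exact ⟨s.1, ⟨s.2, hs⟩, (induced_iff Q (toGO Q s) _).2 rfl⟩

theorem inn_eq : Cfsg.Inn (Cfsg.POmega F (⇑Q)) = ((Cfsg.Omega F (⇑Q)).map (toGO Q)).map (conjPO Q) := by
  have key : ∀ s : Cfsg.Omega F (⇑Q), conjPO Q (toGO Q s.1) = MulAut.conj (QuotientGroup.mk s) := fun s => by
    refine MulEquiv.ext fun x => QuotientGroup.induction_on x fun t => ?_
    rw [conjPO_apply, MulAut.conj_apply, ← QuotientGroup.mk_inv, ← QuotientGroup.mk_mul, ← QuotientGroup.mk_mul]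
    exact congrArg _ (Subtype.ext (Subtype.ext rfl))
  refine le_antisymm ?_ ?_
  · rintro _ ⟨y, rfl⟩
    obtain ⟨s, rfl⟩ := QuotientGroup.mk_surjective y
    exact ⟨_, ⟨s.1, s.2, rfl⟩, key s⟩
  · rintro _ ⟨_, ⟨s, hs, rfl⟩, rfl⟩
    exact ⟨_, (key ⟨s, hs⟩).symm⟩

theorem conjPO_scal (c : Fˣ) : conjPO Q (scal Q c) = 1 := by
  refine MulEquiv.ext fun x => QuotientGroup.induction_on x fun s => congrArg _ (Subtype.ext (toGO_injective Q ?_))
  show toGO Q (conjIso Q (scal Q c) s.1) = toGO Q s.1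
  rw [toGO_conjIso, scal_comm, mul_inv_cancel_right]

theorem map_sup_scal (M : Subgroup (GO Q)) :
    ∀ g, g ∈ M.map (conjPO Q) ↔ g ∈ (M ⊔ (scal Q).range).map (conjPO Q) := by
  intro g
  rw [Subgroup.map_sup, show ((scal Q).range).map (conjPO Q) = ⊥ from ?_, sup_bot_eq]
  rw [Subgroup.eq_bot_iff_forall]
  rintro _ ⟨_, ⟨c, rfl⟩, rfl⟩
  exact conjPO_scal Q c

include hQ hn

/-- A linear map fixing all singular points is scalar. -/
theorem scalar_of_eigen (M : Matrix ι ι F) (h1 : ∀ u, Q u = 0 → u ≠ 0 → ∃ c : F, M *ᵥ u = c • u) :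
    ∃ c : F, M = c • 1 := by
  have same : ∀ u w : ι → F, Q u = 0 → Q w = 0 → u ≠ 0 → w ≠ 0 → QuadraticMap.polar (⇑Q) u w = 0 →
      ∀ c d : F, M *ᵥ u = c • u → M *ᵥ w = d • w → c = d := by
    intro u w hu hw hu0 hw0 huw c d hc hd
    by_cases hli : w ∈ Submodule.span F {u}
    · obtain ⟨t, rfl⟩ := Submodule.mem_span_singleton.mp hli
      rw [Matrix.mulVec_smul, hc, smul_smul, smul_smul, mul_comm t c] at hd
      exact mul_right_cancel₀ (fun ht : t = 0 => hw0 (by rw [ht, zero_smul])) (smul_left_injective F hu0 hd)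
    have hsum : Q (u + w) = 0 := by rw [QuadraticMap.map_add (f := Q), hu, hw, huw]; simp
    have hsum0 : u + w ≠ 0 := fun h => hli (by
      rw [eq_neg_of_add_eq_zero_right h]; exact neg_mem (Submodule.mem_span_singleton_self u))
    obtain ⟨e, he⟩ := h1 _ hsum hsum0
    rw [Matrix.mulVec_add, hc, hd] at he
    have h2 : (d - e) • w = (e - c) • u := by
      rw [sub_smul, sub_smul, sub_eq_sub_iff_add_eq_add, add_comm, he, smul_add]
    by_cases hde : d - e = 0
    · rw [hde, zero_smul, eq_comm, smul_eq_zero] at h2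
      linear_combination -(h2.resolve_right hu0) - hde
    · exfalso
      refine hli (Submodule.mem_span_singleton.mpr ⟨(d - e)⁻¹ * (e - c), ?_⟩)
      rw [mul_smul, ← h2, smul_smul, inv_mul_cancel₀ hde, one_smul]
  have hbot : Module.finrank F (⊥ : Submodule F (ι → F)) = 0 := finrank_bot F (ι → F)
  obtain ⟨w₀, -, r₀, -, hw₀, -, hwr⟩ := exists_pair_perp Q hQ ⊥ (by omega)
  have hw00 : w₀ ≠ 0 := fun h => by rw [h, QuadraticMap.polar_zero_left] at hwr; exact zero_ne_one hwr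
  obtain ⟨c, hc⟩ := h1 w₀ hw₀ hw00
  refine ⟨c, ?_⟩
  have hall : ∀ u, Q u = 0 → M *ᵥ u = c • u := by
    intro u hu
    by_cases hu0 : u = 0
    · rw [hu0, Matrix.mulVec_zero, smul_zero]
    obtain ⟨d, hd⟩ := h1 u hu hu0
    have := finrank_span_two (F := F) u w₀
    obtain ⟨s, hs, r, -, hQs, -, hsr⟩ := exists_pair_perp Q hQ (Submodule.span F {u, w₀}) (by omega)
    have hs0 : s ≠ 0 := fun h => by rw [h, QuadraticMap.polar_zero_left] at hsr; exact zero_ne_one hsr
    obtain ⟨e, he⟩ := h1 s hQs hs0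
    rw [hd, same u s hu hQs hu0 hs0 ((HypQuad.mem_perp Q).mp hs u (Submodule.subset_span (by simp))) d e hd he,
      ← same w₀ s hw₀ hQs hw00 hs0 ((HypQuad.mem_perp Q).mp hs w₀ (Submodule.subset_span (by simp))) c e hc he]
  refine Matrix.toLin'.injective (LinearMap.ext fun x => ?_)
  rw [Matrix.toLin'_apply, Matrix.toLin'_apply, Matrix.smul_mulVec, Matrix.one_mulVec]
  have hspan : Submodule.span F {u : ι → F | Q u = 0} = ⊤ := by
    rw [← perp_perp Q hQ (Submodule.span F {u : ι → F | Q u = 0}), eq_top_iff]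
    intro y _
    rw [HypQuad.mem_perp]
    intro z hz
    have hz0 : z ∈ (⊥ : Submodule F (ι → F)) := mem_of_orth_singular Q hQ ⊥ (by omega) fun r _ hr => by
      rw [QuadraticMap.polar_comm]
      exact (HypQuad.mem_perp Q).mp hz r (Submodule.subset_span hr)
    rw [(Submodule.mem_bot F).mp hz0, QuadraticMap.polar_zero_left]
  have hx : x ∈ Submodule.span F {u : ι → F | Q u = 0} := hspan ▸ Submodule.mem_top
  induction hx using Submodule.span_induction with
  | mem y hy => exact hall y hy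
  | zero => rw [Matrix.mulVec_zero, smul_zero]
  | add a b _ _ iha ihb => rw [Matrix.mulVec_add, iha, ihb, smul_add]
  | smul t a _ iha => rw [Matrix.mulVec_smul, iha, smul_comm]

theorem eigen_of_commute (g : GO Q) (hg : ∀ s ∈ Cfsg.Omega F (⇑Q), g * toGO Q s = toGO Q s * g)
    {u : ι → F} (hu : Q u = 0) (hu0 : u ≠ 0) : ∃ c : F, gm Q g *ᵥ u = c • u := by
  set P := HypQuad.perp Q (Submodule.span F ({u} : Set (ι → F))) with hP
  have hdim : Module.finrank F P = Fintype.card ι - 1 := by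
    rw [HypQuad.finrank_perp Q hQ, finrank_span_singleton hu0, Module.finrank_fintype_fun_eq_card]
  have hline : ∀ z ∈ P, z ∉ Submodule.span F ({u} : Set (ι → F)) →
      gm Q g *ᵥ u ∈ Submodule.span F ({u, z} : Set (ι → F)) := by
    intro z hz hzu
    have huz : QuadraticMap.polar (⇑Q) u z = 0 := hz u (Submodule.mem_span_singleton_self u)
    obtain ⟨x, hux, hzx⟩ : ∃ x, QuadraticMap.polar (⇑Q) u x = 0 ∧ QuadraticMap.polar (⇑Q) z x ≠ 0 := by
      by_contra hc
      push Not at hc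
      refine hzu ?_
      rw [← perp_perp Q hQ (Submodule.span F ({u} : Set (ι → F))), HypQuad.mem_perp]
      intro x hx
      rw [QuadraticMap.polar_comm]
      exact hc x (hx u (Submodule.mem_span_singleton_self u))
    have he : mat Q (siegelG Q hu huz) *ᵥ x = x + (-QuadraticMap.polar (⇑Q) z x) • u := by
      rw [mat_siegelG, siegelMap, hux, zero_smul, add_zero, mul_zero, sub_zero]
    have h1 := congrArg (fun M : GO Q => gm Q M *ᵥ x) (hg _ (siegelG_mem_omega Q hQ (by omega) hu huz))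
    simp only [gm_mul, gm_toGO, ← mulVec_mulVec] at h1
    rw [he, mulVec_add, mulVec_smul, mat_siegelG, siegelMap, add_assoc, add_right_inj] at h1
    refine Submodule.mem_span_pair.2 ⟨(-QuadraticMap.polar (⇑Q) z x)⁻¹ * (-QuadraticMap.polar (⇑Q) z (gm Q g *ᵥ x) -
      Q z * QuadraticMap.polar (⇑Q) u (gm Q g *ᵥ x)),
      (-QuadraticMap.polar (⇑Q) z x)⁻¹ * QuadraticMap.polar (⇑Q) u (gm Q g *ᵥ x), ?_⟩
    rw [mul_smul, mul_smul, ← smul_add, add_comm, ← h1, smul_smul, inv_mul_cancel₀ (neg_ne_zero.2 hzx), one_smul]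
  obtain ⟨z, hz, hzu⟩ : ∃ z ∈ P, z ∉ Submodule.span F ({u} : Set (ι → F)) := by
    by_contra hc
    push Not at hc
    have := Submodule.finrank_mono (s := P) (t := Submodule.span F ({u} : Set (ι → F))) hc
    rw [hdim, finrank_span_singleton hu0] at this
    omega
  obtain ⟨z', hz', hzu'⟩ : ∃ w ∈ P, w ∉ Submodule.span F ({u, z} : Set (ι → F)) := by
    by_contra hc
    push Not at hc
    have := Submodule.finrank_mono (s := P) (t := Submodule.span F ({u, z} : Set (ι → F))) hc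
    have h2 := finrank_span_two (F := F) u z
    rw [hdim] at this
    omega
  obtain ⟨a, b, hab⟩ := Submodule.mem_span_pair.1 (hline z hz hzu)
  obtain ⟨a', b', hab'⟩ := Submodule.mem_span_pair.1
    (hline z' hz' fun h => hzu' (Submodule.span_mono (by simp) h))
  refine ⟨a', ?_⟩
  rcases eq_or_ne b' 0 with rfl | hb'
  · rw [← hab', zero_smul, add_zero]
  · exfalso
    refine hzu' (Submodule.mem_span_pair.2 ⟨b'⁻¹ * (a - a'), b'⁻¹ * b, ?_⟩)
    rw [mul_smul, mul_smul, ← smul_add, sub_smul, sub_add_eq_add_sub, hab, ← hab', add_sub_cancel_left, smul_smul,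
      inv_mul_cancel₀ hb', one_smul]

/-- The kernel of the action on `PΩ`. -/
theorem conjPO_ker : (conjPO Q).ker = (scal Q).range := by
  refine le_antisymm ?_ ?_
  swap
  · rintro _ ⟨c, rfl⟩
    exact conjPO_scal Q c
  intro g hg
  have hz : ∀ s : Cfsg.Omega F (⇑Q), s⁻¹ * conjOm Q g s ∈ Subgroup.center (Cfsg.Omega F (⇑Q)) := fun s => by
    have h1 := DFunLike.congr_fun (MonoidHom.mem_ker.1 hg) (QuotientGroup.mk s)
    exact QuotientGroup.eq.1 h1.symm
  let χ : Cfsg.Omega F (⇑Q) →* Subgroup.center (Cfsg.Omega F (⇑Q)) :=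
    MonoidHom.mk' (fun s => ⟨_, hz s⟩) fun s t => Subtype.ext (by
      show (s * t)⁻¹ * conjOm Q g (s * t) = s⁻¹ * conjOm Q g s * (t⁻¹ * conjOm Q g t)
      rw [map_mul, _root_.mul_inv_rev, mul_assoc, ← mul_assoc s⁻¹, ← mul_assoc t⁻¹,
        Subgroup.mem_center_iff.1 (hz s) t⁻¹, mul_assoc])
  have hker : χ.ker = ⊤ := by
    rw [eq_top_iff, ← perfect Q hQ hn, commutator_def, Subgroup.commutator_le]
    intro a _ b _
    rw [MonoidHom.mem_ker, map_commutatorElement]
    exact commutatorElement_eq_one_iff_mul_comm.2 (Subtype.ext (Subgroup.mem_center_iff.1 (χ a).2 _).symm)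
  have hcomm : ∀ s ∈ Cfsg.Omega F (⇑Q), g * toGO Q s = toGO Q s * g := fun s hs => by
    have h1 : (χ ⟨s, hs⟩).1 = 1 := congrArg Subtype.val (MonoidHom.mem_ker.1 (hker ▸ Subgroup.mem_top _))
    have h2 : conjIso Q g s = s := congrArg Subtype.val (inv_mul_eq_one.1 h1).symm
    have h3 := congrArg (toGO Q) h2
    rw [toGO_conjIso] at h3
    exact mul_inv_eq_iff_eq_mul.1 h3
  obtain ⟨c, hc⟩ := scalar_of_eigen Q hQ hn (gm Q g) fun u hu hu0 => eigen_of_commute Q hQ hn g hcomm hu hu0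
  have hc0 : c ≠ 0 := by
    rintro rfl
    obtain ⟨v, hv⟩ := exists_anisotropic Q hQ hn
    have := mu_spec Q g v
    rw [hc, zero_smul, zero_mulVec, QuadraticMap.map_zero, hv, mul_one] at this
    exact (mu Q g).ne_zero this.symm
  exact ⟨Units.mk0 c hc0, go_ext Q (by rw [gm_scal, hc]; rfl)⟩

end Cfsg.Lib.OrthSim
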