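import Mathlib
import Cfsg.Prelude.Def_LieTypeDatum

/-!
Counting the pieces of a class under a normal subgroup with two cosets to check.
-/

set_option autoImplicit false

namespace Cfsg.Lib.OrthSim

universe u

variable {X : Type u} [Group X] {H N : Subgroup X} {γ d : X}

theorem isConjUnder_symm {K : Subgroup X} {x y : X} (h : Cfsg.IsConjUnder K x y) : Cfsg.IsConjUnder K y x := by
  obtain ⟨k, hk, rfl⟩ := h
  exact ⟨k⁻¹, inv_mem hk, by group⟩

theorem isConjUnder_trans {K : Subgroup X} {x y z : X} (h : Cfsg.IsConjUnder K x y) (h' : Cfsg.IsConjUnder K y z) :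
    Cfsg.IsConjUnder K x z := by
  obtain ⟨k, hk, rfl⟩ := h
  obtain ⟨l, hl, rfl⟩ := h'
  exact ⟨l * k, mul_mem hl hk, by group⟩

theorem split_cases (hd : d ∈ H)
    (cover : ∀ h ∈ H, ∃ n ∈ N, ∃ s, s * γ = γ * s ∧ (h = n * s ∨ h = n * d * s)) :
    (Cfsg.splitClassCount H N γ = 1 ∨ Cfsg.splitClassCount H N γ = 2) ∧
      ((∀ n ∈ N, ¬ (n * d) * γ = γ * (n * d)) → Cfsg.splitClassCount H N γ = 2) := by
  classical
  let T := {y : X // Cfsg.IsConjUnder H γ y}
  let rel : T → T → Prop := fun y z => Cfsg.IsConjUnder N y.1 z.1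
  let a : T := ⟨γ, 1, one_mem _, by group⟩
  let b : T := ⟨d * γ * d⁻¹, d, hd, rfl⟩
  have hall : ∀ z : Quot rel, z = Quot.mk rel a ∨ z = Quot.mk rel b := by
    intro z
    induction z using Quot.ind with
    | mk y =>
      obtain ⟨y, h, hh, rfl⟩ := y
      obtain ⟨n, hn, s, hs, e | e⟩ := cover h hh
      · left; symm; refine Quot.sound ⟨n, hn, ?_⟩
        show h * γ * h⁻¹ = n * γ * n⁻¹
        rw [e, mul_assoc n s γ, hs]; group
      · right; symm; refine Quot.sound ⟨n, hn, ?_⟩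
        show h * γ * h⁻¹ = n * (d * γ * d⁻¹) * n⁻¹
        rw [e, mul_assoc (n * d) s γ, hs]; group
  constructor
  · by_cases e : Quot.mk rel a = Quot.mk rel b
    · left
      haveI : Subsingleton (Quot rel) := ⟨fun p q => by rcases hall p with rfl | rfl <;> rcases hall q with rfl | rfl <;> simp [e]⟩
      exact @Nat.card_of_subsingleton _ (Quot.mk rel a) _
    · right
      exact Nat.card_eq_two_iff.2 ⟨_, _, e, Set.eq_univ_of_forall fun z => hall z⟩
  · intro hno
    refine Nat.card_eq_two_iff.2 ⟨Quot.mk rel a, Quot.mk rel b, fun e => ?_, Set.eq_univ_of_forall fun z => hall z⟩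
    have heq : Equivalence rel := ⟨fun y => ⟨1, one_mem _, by group⟩, isConjUnder_symm, isConjUnder_trans⟩
    obtain ⟨n, hn, he⟩ : rel b a := heq.symm (heq.eqvGen_iff.1 (Quot.eqvGen_exact e))
    refine hno n hn ?_
    change γ = n * (d * γ * d⁻¹) * n⁻¹ at he
    calc n * d * γ = n * (d * γ * d⁻¹) * n⁻¹ * (n * d) := by group
      _ = γ * (n * d) := by rw [← he]

end Cfsg.Lib.OrthSim
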