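import Cfsg.Agent.Known.OrthSim.Invol
import Cfsg.Agent.Known.OrthSim.Split

/-!
Classes of involutory graph automorphisms under the inner automorphisms.
-/

set_option autoImplicit false
set_option linter.unusedSectionVars false
set_option linter.style.haveILetI false

namespace Cfsg.Lib.OrthSim

open Matrix Cfsg.Lib.Classical Cfsg.Lib.Classical.Refl

universe u

variable {F : Type u} [Field F] [Fintype F] [DecidableEq F] {ι : Type} [Fintype ι] [DecidableEq ι]
variable {Q : QuadraticForm F (ι → F)} {k : ℕ}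

namespace Setup

variable (S : Setup Q k)
include S

theorem comm_mem_NN {m' : GO Q} (hm : S.e m' = 1) : m' * S.D * m'⁻¹ * S.D⁻¹ ∈ NN Q := by
  have hN := nn_normal Q
  haveI hKn : S.K.Normal := by unfold K KK; infer_instance
  have key : ∀ x ∈ S.K, x * S.D * x⁻¹ * S.D⁻¹ ∈ NN Q := by
    intro x hx
    by_cases h : x ∈ NN Q
    · have := mul_mem h (hN.conj_mem _ (inv_mem h) S.D)
      simpa [mul_assoc] using this
    · have h' : S.D * x⁻¹ * S.D⁻¹ ∉ NN Q := fun h' => h (by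
        have := hN.conj_mem _ h' S.D⁻¹
        simpa [mul_assoc] using this)
      have := S.mul_mem_of_out hx (hKn.conj_mem _ (inv_mem hx) S.D) h h'
      simpa [mul_assoc] using this
  rcases S.cover_e hm with h | h
  · exact key _ h
  · have := hN.conj_mem _ (key _ h) S.D⁻¹
    convert this using 1
    group

theorem comm_notMem' (hneg : NegMem Q) {g : GO Q} (hg : S.e g = -1) : g * S.D * g⁻¹ * S.D⁻¹ ∉ NN Q := by
  intro h
  have hN := nn_normal Q
  have h1 := hN.conj_mem _ (S.comm_mem_NN (S.e_b0_mul hg)) S.b0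
  refine S.comm_notMem hneg ?_
  have h2 := mul_mem (inv_mem h1) h
  convert h2 using 1
  obtain ⟨x, hx⟩ : ∃ x, g = S.b0 * x := ⟨S.b0 * g, by rw [← mul_assoc, S.b0_sq, one_mul]⟩
  subst hx
  rw [← mul_assoc S.b0 S.b0 x, S.b0_sq, one_mul]
  group

theorem split_graph {g : GO Q} (he : S.e g = -1) (hord : conjPO Q g * conjPO Q g = 1) :
    (Cfsg.splitClassCount (S.M.map (conjPO Q)) (Cfsg.Inn (Cfsg.POmega F (⇑Q))) (conjPO Q g) = 1 ∨
        Cfsg.splitClassCount (S.M.map (conjPO Q)) (Cfsg.Inn (Cfsg.POmega F (⇑Q))) (conjPO Q g) = 2) ∧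
      ((NegMem Q ∨ Even k) →
        Cfsg.splitClassCount (S.M.map (conjPO Q)) (Cfsg.Inn (Cfsg.POmega F (⇑Q))) (conjPO Q g) = 2) := by
  have hN := nn_normal Q
  haveI hKn : S.K.Normal := by unfold K KK; infer_instance
  rw [← map_mul, ← MonoidHom.mem_ker, conjPO_ker Q S.hQ S.hn] at hord
  obtain ⟨c, hc⟩ := hord
  obtain ⟨h0, hd0, hs0, hfix⟩ := S.exists_fixed he hc.symm
  have hs' : toGO Q h0 * g = g * toGO Q h0 := by
    have := congrArg (toGO Q) hfix
    rw [toGO_conjIso, mul_inv_eq_iff_eq_mul] at this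
    exact this.symm
  have hK0 : toGO Q h0 ∈ S.K := (mem_KK Q S.hQ S.hn S.hk S.h2).2 ⟨1, h0, hd0, by rw [map_one, one_mul]⟩
  have hcov : ∀ x ∈ S.K, ∃ n ∈ NN Q, ∃ s, s * g = g * s ∧ x = n * s := by
    intro x hx
    by_cases h : x ∈ NN Q
    · exact ⟨x, h, 1, by rw [one_mul, mul_one], (mul_one x).symm⟩
    · refine ⟨x * (toGO Q h0)⁻¹, S.mul_mem_of_out hx (inv_mem hK0) h fun h' => ?_, toGO Q h0, hs',
        (inv_mul_cancel_right _ _).symm⟩
      by_cases hneg : NegMem Q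
      · exact S.not_mem_of_spin hneg hs0 (by simpa using inv_mem h')
      · exact h (S.K_eq_NN hneg ▸ hx)
  obtain ⟨h1, h2⟩ := split_cases (H := S.M.map (conjPO Q)) (N := Cfsg.Inn (Cfsg.POmega F (⇑Q)))
    (γ := conjPO Q g) (d := conjPO Q S.D) ⟨S.D, S.hD1, rfl⟩ (by
      rintro _ ⟨x, hx, rfl⟩
      simp only [inn_eq']
      rcases S.t_pm x with ht | ht
      · obtain ⟨n, hn, s, hs, rfl⟩ := hcov x (S.mem_K.2 ⟨hx, ht⟩)
        exact ⟨_, ⟨n, hn, rfl⟩, conjPO Q s, by rw [← map_mul, ← map_mul, hs], Or.inl (map_mul _ _ _)⟩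
      · obtain ⟨n, hn, s, hs, e⟩ := hcov (S.D⁻¹ * x) (S.mem_K.2
          ⟨by rw [map_mul, map_inv, show S.e S.D = 1 from S.hD1, show S.e x = 1 from hx, inv_one, one_mul],
            by rw [map_mul, map_inv, S.t_D, ht, inv_mul_cancel]⟩)
        refine ⟨_, ⟨S.D * n * S.D⁻¹, hN.conj_mem _ hn _, rfl⟩, conjPO Q s, by rw [← map_mul, ← map_mul, hs], Or.inr ?_⟩
        rw [← map_mul, ← map_mul]
        congr 1
        rw [inv_mul_cancel_right, mul_assoc, ← e, mul_inv_cancel_left])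
  refine ⟨h1, fun hk => h2 ?_⟩
  simp only [inn_eq']
  rintro _ ⟨n, hn, rfl⟩ hcomm
  rw [← map_mul, ← map_mul, ← map_mul, eq_comm, ← mul_inv_eq_one, ← map_inv, ← map_mul, ← MonoidHom.mem_ker,
    conjPO_ker Q S.hQ S.hn] at hcomm
  obtain ⟨z, hz⟩ := hcomm
  rcases hk with hneg | hk
  · refine S.comm_notMem' hneg he ?_
    have h3 : g * (n * S.D) * (n * S.D * g)⁻¹ ∈ NN Q := hz ▸ (mem_NN Q).2 ⟨z, 1, one_mem _, by rw [map_one (toGO Q), mul_one]⟩
    have h4 := mul_mem (mul_mem (hN.conj_mem _ (inv_mem hn) g) h3) hn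
    convert h4 using 1
    group
  · have hnK := S.mem_K.1 (S.nn_le hn)
    have hsq : IsSquare (mu Q (n * S.D)) := S.no_swap he hc.symm hk (z := z⁻¹) (by
      rw [map_inv, hz, _root_.mul_inv_rev, inv_inv, inv_mul_cancel_right])
    have := (S.t_eq_one_iff _).2 hsq
    rw [map_mul, hnK.2, S.t_D, one_mul] at this
    exact S.neg_ne this

end Setup

end Cfsg.Lib.OrthSim
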