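import Mathlib

/-! Maps onto small groups described by cosets of a normal subgroup. -/

set_option autoImplicit false

namespace Cfsg.Lib.OrthSim

variable {X : Type*} [Group X] {T : Type*} [Group T]

theorem exists_of_bij (N : Subgroup X) [N.Normal] (e : T →* X ⧸ N) (he : Function.Bijective e) :
    ∃ φ : X →* T, Function.Surjective φ ∧ φ.ker = N := by
  refine ⟨(MulEquiv.ofBijective e he).symm.toMonoidHom.comp (QuotientGroup.mk' N),
    (MulEquiv.ofBijective e he).symm.surjective.comp (QuotientGroup.mk'_surjective N), ?_⟩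
  ext x
  rw [MonoidHom.mem_ker, MonoidHom.comp_apply]
  exact (MulEquiv.ofBijective e he).symm.map_eq_one_iff.trans (QuotientGroup.eq_one_iff x)

section Lift

variable {Y : Type*} [Group Y]

/-- The powers of an element with `a ^ n = 1`. -/
def zpw (n : ℕ) [NeZero n] (a : Y) (i : ZMod n) : Y := a ^ i.val

theorem zpw_add {n : ℕ} [NeZero n] {a : Y} (ha : a ^ n = 1) (i j : ZMod n) :
    zpw n a (i + j) = zpw n a i * zpw n a j := by
  rw [zpw, zpw, zpw, ← pow_add, ZMod.val_add]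
  exact pow_eq_pow_mod (i.val + j.val) ha |>.symm

theorem zpw_zero (n : ℕ) [NeZero n] (a : Y) : zpw n a 0 = 1 := by rw [zpw, ZMod.val_zero, pow_zero]

theorem zpw_neg {n : ℕ} [NeZero n] {a : Y} (ha : a ^ n = 1) (i : ZMod n) : zpw n a (-i) = (zpw n a i)⁻¹ :=
  eq_inv_of_mul_eq_one_left (by rw [← zpw_add ha, neg_add_cancel, zpw_zero])

theorem swap_zpw {n : ℕ} [NeZero n] {a b : Y} (ha : a ^ n = 1) (hba : b * a * b⁻¹ = a⁻¹) (i : ZMod n) :
    b * zpw n a i = zpw n a (-i) * b := by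
  rw [zpw_neg ha, zpw, ← inv_pow, ← hba, conj_pow, inv_mul_cancel_right]

/-- The map out of a dihedral group. -/
def dihLift {n : ℕ} [NeZero n] (a b : Y) (ha : a ^ n = 1) (hb : b * b = 1) (hba : b * a * b⁻¹ = a⁻¹) :
    DihedralGroup n →* Y :=
  MonoidHom.mk' (fun x => match x with
    | DihedralGroup.r i => zpw n a i
    | DihedralGroup.sr i => b * zpw n a i) (by
    rintro (i | i) (j | j)
    · rw [DihedralGroup.r_mul_r]; exact zpw_add ha i j
    · rw [DihedralGroup.r_mul_sr]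
      show b * zpw n a (j - i) = zpw n a i * (b * zpw n a j)
      rw [← mul_assoc, ← neg_neg i, ← swap_zpw ha hba, mul_assoc, ← zpw_add ha, neg_neg, sub_eq_neg_add]
    · rw [DihedralGroup.sr_mul_r]
      show b * zpw n a (i + j) = b * zpw n a i * zpw n a j
      rw [mul_assoc, ← zpw_add ha]
    · rw [DihedralGroup.sr_mul_sr]
      show zpw n a (j - i) = b * zpw n a i * (b * zpw n a j)
      rw [swap_zpw ha hba, mul_assoc, ← mul_assoc b b, hb, one_mul, ← zpw_add ha, sub_eq_neg_add])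

theorem dihLift_r {n : ℕ} [NeZero n] (a b : Y) (ha : a ^ n = 1) (hb : b * b = 1) (hba : b * a * b⁻¹ = a⁻¹)
    (i : ZMod n) : dihLift a b ha hb hba (DihedralGroup.r i) = zpw n a i := rfl

theorem dihLift_sr {n : ℕ} [NeZero n] (a b : Y) (ha : a ^ n = 1) (hb : b * b = 1) (hba : b * a * b⁻¹ = a⁻¹)
    (i : ZMod n) : dihLift a b ha hb hba (DihedralGroup.sr i) = b * zpw n a i := rfl

/-- The map out of a cyclic group. -/
def cycLift {n : ℕ} [NeZero n] (a : Y) (ha : a ^ n = 1) : Multiplicative (ZMod n) →* Y :=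
  MonoidHom.mk' (fun x => zpw n a x.toAdd) fun x y => zpw_add ha x.toAdd y.toAdd

/-- The map out of the Klein group. -/
def kleinLift (a b : Y) (ha : a ^ 2 = 1) (hb : b ^ 2 = 1) (hab : Commute a b) :
    Multiplicative (ZMod 2 × ZMod 2) →* Y :=
  MonoidHom.mk' (fun x => zpw 2 a x.toAdd.1 * zpw 2 b x.toAdd.2) fun x y => by
    show zpw 2 a (x.toAdd.1 + y.toAdd.1) * zpw 2 b (x.toAdd.2 + y.toAdd.2) = _
    rw [zpw_add ha, zpw_add hb]
    exact Commute.mul_mul_mul_comm (hab.pow_pow _ _) _ _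

end Lift

variable (N : Subgroup X) [N.Normal]

theorem mk_eq_one {x : X} : (x : X ⧸ N) = 1 ↔ x ∈ N := QuotientGroup.eq_one_iff x

theorem mk_ne_one {x : X} (h : x ∉ N) : (x : X ⧸ N) ≠ 1 := fun e => h ((mk_eq_one N).1 e)

theorem exists_cyclic_two {a : X} (ha : a ∉ N) (hcov : ∀ x, x ∈ N ∨ a * x ∈ N) :
    ∃ φ : X →* Multiplicative (ZMod 2), Function.Surjective φ ∧ φ.ker = N := by
  have ha2 : (a : X ⧸ N) ^ 2 = 1 := by
    rw [← QuotientGroup.mk_pow, mk_eq_one, pow_two]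
    exact (hcov a).resolve_left ha
  refine exists_of_bij N (cycLift (a : X ⧸ N) ha2) ⟨(injective_iff_map_eq_one _).2 fun x h => ?_, fun y => ?_⟩
  · revert h
    have hz : ∀ i : ZMod 2, i = 0 ∨ i = 1 := by decide
    obtain ⟨i, rfl⟩ := Multiplicative.ofAdd.surjective x
    rcases hz i with rfl | rfl
    · exact fun _ => rfl
    · intro h
      change (a : X ⧸ N) ^ 1 = 1 at h
      rw [pow_one] at h
      exact absurd h (mk_ne_one N ha)
  · obtain ⟨x, rfl⟩ := QuotientGroup.mk_surjective y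
    rcases hcov x with h | h
    · exact ⟨1, by rw [map_one, eq_comm, mk_eq_one]; exact h⟩
    · refine ⟨Multiplicative.ofAdd 1, ?_⟩
      show (a : X ⧸ N) ^ 1 = _
      rw [pow_one]
      exact mul_left_cancel (a := (a : X ⧸ N)) (by
        rw [← pow_two, ha2, eq_comm, ← QuotientGroup.mk_mul, mk_eq_one]; exact h)

theorem exists_klein {a b : X} (ha2 : a * a ∈ N) (hb2 : b * b ∈ N) (hab : a * b * a⁻¹ * b⁻¹ ∈ N)
    (ha : a ∉ N) (hb : b ∉ N) (hne : a * b ∉ N)
    (hcov : ∀ x, x ∈ N ∨ a * x ∈ N ∨ b * x ∈ N ∨ a * (b * x) ∈ N) :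
    ∃ φ : X →* Multiplicative (ZMod 2 × ZMod 2), Function.Surjective φ ∧ φ.ker = N := by
  have hA : (a : X ⧸ N) ^ 2 = 1 := by rw [pow_two, ← QuotientGroup.mk_mul, mk_eq_one]; exact ha2
  have hB : (b : X ⧸ N) ^ 2 = 1 := by rw [pow_two, ← QuotientGroup.mk_mul, mk_eq_one]; exact hb2
  have hAB : Commute (a : X ⧸ N) b := by
    have e : ((a * b * a⁻¹ * b⁻¹ : X) : X ⧸ N) = 1 := (mk_eq_one N).2 hab
    simp only [QuotientGroup.mk_mul, QuotientGroup.mk_inv] at e
    exact mul_inv_eq_iff_eq_mul.1 (mul_inv_eq_one.1 e)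
  refine exists_of_bij N (kleinLift (a : X ⧸ N) b hA hB hAB) ⟨(injective_iff_map_eq_one _).2 fun x h => ?_,
    fun y => ?_⟩
  · obtain ⟨⟨i, j⟩, rfl⟩ := Multiplicative.ofAdd.surjective x
    change (a : X ⧸ N) ^ i.val * (b : X ⧸ N) ^ j.val = 1 at h
    have hz : ∀ i : ZMod 2, i = 0 ∨ i = 1 := by decide
    rcases hz i with rfl | rfl <;> rcases hz j with rfl | rfl <;>
      simp only [ZMod.val_zero, ZMod.val_one, pow_zero, pow_one, one_mul, mul_one] at h
    · rfl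
    · exact absurd h (mk_ne_one N hb)
    · exact absurd h (mk_ne_one N ha)
    · rw [← QuotientGroup.mk_mul] at h
      exact absurd h (mk_ne_one N hne)
  · obtain ⟨x, rfl⟩ := QuotientGroup.mk_surjective y
    have key : ∀ (c : X), c * x ∈ N → (c : X ⧸ N)⁻¹ = (x : X ⧸ N) := fun c hc =>
      inv_eq_of_mul_eq_one_right (by rw [← QuotientGroup.mk_mul, mk_eq_one]; exact hc)
    have hAi : (a : X ⧸ N)⁻¹ = a := inv_eq_of_mul_eq_one_left (by rw [← pow_two, hA])
    have hBi : (b : X ⧸ N)⁻¹ = b := inv_eq_of_mul_eq_one_left (by rw [← pow_two, hB])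
    rcases hcov x with h | h | h | h
    · exact ⟨1, by rw [map_one, eq_comm, mk_eq_one]; exact h⟩
    · refine ⟨Multiplicative.ofAdd (1, 0), ?_⟩
      show (a : X ⧸ N) ^ 1 * (b : X ⧸ N) ^ 0 = _
      rw [pow_one, pow_zero, mul_one, ← hAi, key a h]
    · refine ⟨Multiplicative.ofAdd (0, 1), ?_⟩
      show (a : X ⧸ N) ^ 0 * (b : X ⧸ N) ^ 1 = _
      rw [pow_one, pow_zero, one_mul, ← hBi, key b h]
    · refine ⟨Multiplicative.ofAdd (1, 1), ?_⟩
      show (a : X ⧸ N) ^ 1 * (b : X ⧸ N) ^ 1 = _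
      rw [pow_one, pow_one, hAB.eq, ← key (a * b) (by rwa [mul_assoc]), QuotientGroup.mk_mul, _root_.mul_inv_rev,
        hAi, hBi]

theorem exists_cyclic_four {a s : X} (has : a * a * s⁻¹ ∈ N) (hs2 : s * s ∈ N) (hs : s ∉ N)
    (ha : a ∉ N) (hsa : s * a ∉ N)
    (hcov : ∀ x, x ∈ N ∨ s * x ∈ N ∨ a * x ∈ N ∨ s * (a * x) ∈ N) :
    ∃ φ : X →* Multiplicative (ZMod 4), Function.Surjective φ ∧ φ.ker = N := by
  have hA2 : (a : X ⧸ N) ^ 2 = s := by
    rw [pow_two, ← QuotientGroup.mk_mul, ← mul_inv_eq_one, ← QuotientGroup.mk_inv, ← QuotientGroup.mk_mul,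
      mk_eq_one]
    exact has
  have hS2 : (s : X ⧸ N) ^ 2 = 1 := by rw [pow_two, ← QuotientGroup.mk_mul, mk_eq_one]; exact hs2
  have hA : (a : X ⧸ N) ^ 4 = 1 := by rw [show 4 = 2 * 2 from rfl, pow_mul, hA2, hS2]
  have h3 : (a : X ⧸ N) ^ 3 = (s : X ⧸ N) * a := by rw [pow_succ, hA2]
  refine exists_of_bij N (cycLift (a : X ⧸ N) hA) ⟨(injective_iff_map_eq_one _).2 fun x h => ?_, fun y => ?_⟩
  · obtain ⟨i, rfl⟩ := Multiplicative.ofAdd.surjective x
    change (a : X ⧸ N) ^ i.val = 1 at h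
    have hz : ∀ i : ZMod 4, i = 0 ∨ i.val = 1 ∨ i.val = 2 ∨ i.val = 3 := by decide
    rcases hz i with rfl | e | e | e
    · rfl
    · rw [e, pow_one] at h; exact absurd h (mk_ne_one N ha)
    · rw [e, hA2] at h; exact absurd h (mk_ne_one N hs)
    · rw [e, h3, ← QuotientGroup.mk_mul] at h; exact absurd h (mk_ne_one N hsa)
  · obtain ⟨x, rfl⟩ := QuotientGroup.mk_surjective y
    have key : ∀ (c : X), c * x ∈ N → (c : X ⧸ N)⁻¹ = (x : X ⧸ N) := fun c hc =>
      inv_eq_of_mul_eq_one_right (by rw [← QuotientGroup.mk_mul, mk_eq_one]; exact hc)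
    rcases hcov x with h | h | h | h
    · exact ⟨1, by rw [map_one, eq_comm, mk_eq_one]; exact h⟩
    · refine ⟨Multiplicative.ofAdd 2, ?_⟩
      show (a : X ⧸ N) ^ 2 = _
      rw [← key s h, hA2]
      exact (inv_eq_of_mul_eq_one_left (by rw [← pow_two, hS2])).symm
    · refine ⟨Multiplicative.ofAdd 3, ?_⟩
      show (a : X ⧸ N) ^ 3 = _
      rw [← key a h]
      exact eq_inv_of_mul_eq_one_left (by rw [← pow_succ, hA])
    · refine ⟨Multiplicative.ofAdd 1, ?_⟩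
      show (a : X ⧸ N) ^ 1 = _
      rw [pow_one, ← key (s * a) (by rwa [mul_assoc])]
      refine eq_inv_of_mul_eq_one_left ?_
      rw [QuotientGroup.mk_mul, ← hA2, ← pow_succ, ← pow_succ', hA]

theorem exists_dihedral_four {a b s : X} (has : a * a * s⁻¹ ∈ N) (hs2 : s * s ∈ N) (hb2 : b * b ∈ N)
    (hba : b * a * b⁻¹ * a ∈ N) (hs : s ∉ N) (ha : a ∉ N) (hsa : s * a ∉ N)
    (hb : b ∉ N) (hbs : b * s ∉ N) (hab : b * a ∉ N) (hbas : b * (s * a) ∉ N)
    (hcov : ∀ x, x ∈ N ∨ s * x ∈ N ∨ a * x ∈ N ∨ s * (a * x) ∈ N ∨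
      b * x ∈ N ∨ s * (b * x) ∈ N ∨ a * (b * x) ∈ N ∨ s * (a * (b * x)) ∈ N) :
    ∃ φ : X →* DihedralGroup 4, Function.Surjective φ ∧ φ.ker = N := by
  have hA2 : (a : X ⧸ N) ^ 2 = s := by
    rw [pow_two, ← QuotientGroup.mk_mul, ← mul_inv_eq_one, ← QuotientGroup.mk_inv, ← QuotientGroup.mk_mul,
      mk_eq_one]
    exact has
  have hS2 : (s : X ⧸ N) ^ 2 = 1 := by rw [pow_two, ← QuotientGroup.mk_mul, mk_eq_one]; exact hs2
  have hA : (a : X ⧸ N) ^ 4 = 1 := by rw [show 4 = 2 * 2 from rfl, pow_mul, hA2, hS2]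
  have h3 : (a : X ⧸ N) ^ 3 = (s : X ⧸ N) * a := by rw [pow_succ, hA2]
  have hB : (b : X ⧸ N) * b = 1 := by rw [← QuotientGroup.mk_mul, mk_eq_one]; exact hb2
  have hBA : (b : X ⧸ N) * a * (b : X ⧸ N)⁻¹ = (a : X ⧸ N)⁻¹ := by
    refine eq_inv_of_mul_eq_one_left ?_
    rw [← QuotientGroup.mk_inv, ← QuotientGroup.mk_mul, ← QuotientGroup.mk_mul, ← QuotientGroup.mk_mul, mk_eq_one]
    exact hba
  refine exists_of_bij N (dihLift (a : X ⧸ N) b hA hB hBA) ⟨(injective_iff_map_eq_one _).2 fun x h => ?_,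
    fun y => ?_⟩
  · have hz : ∀ i : ZMod 4, i = 0 ∨ i.val = 1 ∨ i.val = 2 ∨ i.val = 3 := by decide
    rcases x with i | i
    · rw [dihLift_r, zpw] at h
      rcases hz i with rfl | e | e | e
      · rfl
      · rw [e, pow_one] at h; exact absurd h (mk_ne_one N ha)
      · rw [e, hA2] at h; exact absurd h (mk_ne_one N hs)
      · rw [e, h3, ← QuotientGroup.mk_mul] at h; exact absurd h (mk_ne_one N hsa)
    · rw [dihLift_sr, zpw] at h
      rcases hz i with rfl | e | e | e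
      · rw [ZMod.val_zero, pow_zero, mul_one] at h; exact absurd h (mk_ne_one N hb)
      · rw [e, pow_one, ← QuotientGroup.mk_mul] at h; exact absurd h (mk_ne_one N hab)
      · rw [e, hA2, ← QuotientGroup.mk_mul] at h; exact absurd h (mk_ne_one N hbs)
      · rw [e, h3, ← QuotientGroup.mk_mul, ← QuotientGroup.mk_mul] at h; exact absurd h (mk_ne_one N hbas)
  · obtain ⟨x, rfl⟩ := QuotientGroup.mk_surjective y
    have key : ∀ (c : X), c * x ∈ N → (c : X ⧸ N)⁻¹ = (x : X ⧸ N) := fun c hc =>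
      inv_eq_of_mul_eq_one_right (by rw [← QuotientGroup.mk_mul, mk_eq_one]; exact hc)
    have hSi : (s : X ⧸ N)⁻¹ = s := inv_eq_of_mul_eq_one_left (by rw [← pow_two, hS2])
    have hBi : (b : X ⧸ N)⁻¹ = b := inv_eq_of_mul_eq_one_left hB
    have hAi : (a : X ⧸ N)⁻¹ = (a : X ⧸ N) ^ 3 := inv_eq_of_mul_eq_one_left (by rw [← pow_succ, hA])
    have hAS : ((a : X ⧸ N))⁻¹ * (s : X ⧸ N)⁻¹ = a := by
      rw [← hA2, ← _root_.mul_inv_rev, ← pow_succ]
      exact inv_eq_of_mul_eq_one_right (by rw [← pow_succ, hA])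
    rcases hcov x with h | h | h | h | h | h | h | h
    · exact ⟨1, by rw [map_one, eq_comm, mk_eq_one]; exact h⟩
    · exact ⟨DihedralGroup.r 2, (show (a : X ⧸ N) ^ 2 = _ by rw [hA2, ← key s h, hSi])⟩
    · exact ⟨DihedralGroup.r 3, (show (a : X ⧸ N) ^ 3 = _ by rw [← key a h, hAi])⟩
    · refine ⟨DihedralGroup.r 1, (show (a : X ⧸ N) ^ 1 = _ from ?_)⟩
      rw [pow_one, ← key (s * a) (by rwa [mul_assoc]), QuotientGroup.mk_mul, _root_.mul_inv_rev, hAS]
    · exact ⟨DihedralGroup.sr 0, (show (b : X ⧸ N) * (a : X ⧸ N) ^ 0 = _ by rw [pow_zero, mul_one, ← key b h, hBi])⟩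
    · refine ⟨DihedralGroup.sr 2, (show (b : X ⧸ N) * (a : X ⧸ N) ^ 2 = _ from ?_)⟩
      rw [hA2, ← key (s * b) (by rwa [mul_assoc]), QuotientGroup.mk_mul, _root_.mul_inv_rev, hBi, hSi]
    · refine ⟨DihedralGroup.sr 3, (show (b : X ⧸ N) * (a : X ⧸ N) ^ 3 = _ from ?_)⟩
      rw [← key (a * b) (by rwa [mul_assoc]), QuotientGroup.mk_mul, _root_.mul_inv_rev, hBi, hAi]
    · refine ⟨DihedralGroup.sr 1, (show (b : X ⧸ N) * (a : X ⧸ N) ^ 1 = _ from ?_)⟩
      rw [pow_one, ← key (s * (a * b)) (by rwa [mul_assoc, mul_assoc]), QuotientGroup.mk_mul, QuotientGroup.mk_mul,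
        _root_.mul_inv_rev, _root_.mul_inv_rev, hBi, mul_assoc, hAS]

omit [N.Normal] in
/-- Transport a map with given kernel along a homomorphism with smaller kernel. -/
theorem exists_descend {A : Type*} [Group A] {B : Type*} [Group B] (ψ : X →* A) (M : Subgroup X)
    (φ₀ : M →* B) (hs : Function.Surjective φ₀) (hk : φ₀.ker = N.subgroupOf M) (hψ : ψ.ker ≤ N) :
    ∃ φ : ↥(M.map ψ) →* B, Function.Surjective φ ∧ φ.ker = (N.map ψ).subgroupOf (M.map ψ) := by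
  let g : M →* ↥(M.map ψ) := ψ.subgroupMap M
  have hg : Function.Surjective g := ψ.subgroupMap_surjective M
  have hker : g.ker ≤ φ₀.ker := by
    intro x hx
    rw [hk, Subgroup.mem_subgroupOf]
    exact hψ (congrArg Subtype.val hx)
  let f : {f : M →* B // g.ker ≤ f.ker} := ⟨φ₀, hker⟩
  have hf : ∀ x : M, (g.liftOfSurjective hg f) (g x) = φ₀ x := g.liftOfRightInverse_comp_apply _ _ f
  refine ⟨g.liftOfSurjective hg f, fun b => ?_, ?_⟩
  · obtain ⟨x, rfl⟩ := hs b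
    exact ⟨g x, hf x⟩
  · ext y
    obtain ⟨x, rfl⟩ := hg y
    rw [MonoidHom.mem_ker, hf, ← MonoidHom.mem_ker, hk, Subgroup.mem_subgroupOf, Subgroup.mem_subgroupOf]
    constructor
    · exact fun h => ⟨x, h, rfl⟩
    · rintro ⟨z, hz, e⟩
      have hmem : z⁻¹ * (x : X) ∈ N := hψ (by
        rw [MonoidHom.mem_ker, map_mul, map_inv, e]; exact inv_mul_cancel _)
      have := mul_mem hz hmem
      rwa [mul_inv_cancel_left] at this

end Cfsg.Lib.OrthSim
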